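import Groth.Agent.MultType.LiftNil
import Mathlib.RingTheory.HopfAlgebra.MonoidAlgebra
import Mathlib.RingTheory.Smooth.Basic
import Mathlib.LinearAlgebra.Matrix.NonsingularInverse

/-!
Homomorphisms from a diagonalisable group into an affine group, in terms of algebras.
-/

set_option autoImplicit false
set_option linter.style.haveILetI false
set_option linter.unusedSectionVars false

universe u

open TensorProduct MonoidAlgebra

noncomputable section

namespace Groth.Agent.HomDM

variable {R : Type u} [CommRing R] {A : Type u} [CommRing A] [Bialgebra R A] {Γ : Type} [CommGroup Γ]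
  {T : Type u} [CommRing T] [Algebra R T]

/-- The pairing of two copies of a point. -/
def conv2 (f : A →ₐ[R] MonoidAlgebra T Γ) : A →ₐ[R] MonoidAlgebra T (Γ × Γ) :=
  (Algebra.TensorProduct.lift ((MonoidAlgebra.mapDomainAlgHom R T (MonoidHom.inl Γ Γ)).comp f)
    ((MonoidAlgebra.mapDomainAlgHom R T (MonoidHom.inr Γ Γ)).comp f) fun _ _ => Commute.all _ _).comp
    (Bialgebra.comulAlgHom R A)

/-- The diagonal copy of a point. -/
def dup (f : A →ₐ[R] MonoidAlgebra T Γ) : A →ₐ[R] MonoidAlgebra T (Γ × Γ) :=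
  (MonoidAlgebra.mapDomainAlgHom R T ((MonoidHom.id Γ).prod (MonoidHom.id Γ))).comp f

/-- A point of the scheme of homomorphisms. -/
def IsHomPt (f : A →ₐ[R] MonoidAlgebra T Γ) : Prop := conv2 f = dup f

theorem coeff_inl_mul_inr (x y : MonoidAlgebra T Γ) (m n : Γ) :
    (MonoidAlgebra.mapDomainAlgHom R T (MonoidHom.inl Γ Γ) x *
      MonoidAlgebra.mapDomainAlgHom R T (MonoidHom.inr Γ Γ) y).coeff (m, n) = x.coeff m * y.coeff n := by
  classical
  induction x using MonoidAlgebra.induction_linear with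
  | zero => simp
  | add p q hp hq => simp only [map_add, add_mul, coeff_add, Finsupp.add_apply, hp, hq]
  | single k r =>
    induction y using MonoidAlgebra.induction_linear with
    | zero => simp
    | add p q hp hq => simp only [map_add, mul_add, coeff_add, Finsupp.add_apply, hp, hq]
    | single l s =>
      simp only [MonoidAlgebra.mapDomainAlgHom_apply, MonoidAlgebra.mapDomain_single, MonoidAlgebra.single_mul_single,
        coeff_single, Finsupp.single_apply, MonoidHom.inl_apply, MonoidHom.inr_apply, Prod.mk_mul_mk, mul_one, one_mul,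
        Prod.mk.injEq]
      by_cases h1 : k = m <;> by_cases h2 : l = n <;> simp [h1, h2]

theorem coeff_diag (x : MonoidAlgebra T Γ) (n : Γ) :
    (MonoidAlgebra.mapDomainAlgHom R T ((MonoidHom.id Γ).prod (MonoidHom.id Γ)) x).coeff (n, n) = x.coeff n := by
  classical
  induction x using MonoidAlgebra.induction_linear with
  | zero => simp
  | add p q hp hq => simp only [map_add, coeff_add, Finsupp.add_apply, hp, hq]
  | single k r =>
    simp only [MonoidAlgebra.mapDomainAlgHom_apply, MonoidAlgebra.mapDomain_single, coeff_single, Finsupp.single_apply,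
      MonoidHom.prod_apply, MonoidHom.id_apply, Prod.mk.injEq, and_self]

variable {N : ℕ} {y : Fin N → A} {a : Fin N → Fin N → A}

/-- The matrix of a point at a weight. -/
def mat (a : Fin N → Fin N → A) (f : A →ₐ[R] MonoidAlgebra T Γ) (n : Γ) : Matrix (Fin N) (Fin N) T :=
  Matrix.of fun j i => (f (a j i)).coeff n

/-- The weights of a point are in `F`. -/
def Good (a : Fin N → Fin N → A) (F : Finset Γ) (f : A →ₐ[R] MonoidAlgebra T Γ) : Prop :=
  ∀ n ∉ F, IsUnit (1 - mat a f n).det

theorem coeff_eq_zero (hΔ : ∀ i, Coalgebra.comul (R := R) (y i) = ∑ j, y j ⊗ₜ[R] a j i)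
    {f : A →ₐ[R] MonoidAlgebra T Γ} (hf : IsHomPt f) {n : Γ} (hu : IsUnit (1 - mat a f n).det) (i : Fin N) :
    (f (y i)).coeff n = 0 := by
  classical
  let v : Fin N → T := fun i => (f (y i)).coeff n
  have hv : ∀ i, v i = ∑ j, v j * mat a f n j i := fun i => by
    have h := congrArg (fun z => z.coeff (n, n)) (AlgHom.congr_fun hf (y i))
    simp only [conv2, dup, AlgHom.comp_apply, Bialgebra.comulAlgHom_apply, hΔ, map_sum,
      Algebra.TensorProduct.lift_tmul, coeff_diag, coeff_sum, Finsupp.finsetSum_apply, coeff_inl_mul_inr] at h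
    exact h.symm
  have h0 : Matrix.vecMul v (1 - mat a f n) = 0 := by
    funext i
    rw [Matrix.vecMul_sub, Matrix.vecMul_one, Pi.sub_apply, Pi.zero_apply, sub_eq_zero]
    exact hv i
  have h := congrArg (fun w => Matrix.vecMul w (1 - mat a f n)⁻¹) h0
  simp only [Matrix.vecMul_vecMul, Matrix.mul_nonsing_inv _ hu, Matrix.vecMul_one, Matrix.zero_vecMul] at h
  exact congrFun h i

theorem mat_map {T' : Type u} [CommRing T'] [Algebra R T'] (g : T →ₐ[R] T') (f : A →ₐ[R] MonoidAlgebra T Γ) (n : Γ) :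
    mat a ((MonoidAlgebra.mapAlgHom Γ g).comp f) n = (mat a f n).map g := by
  ext j i
  simp [mat]

theorem det_map {T' : Type u} [CommRing T'] [Algebra R T'] (g : T →ₐ[R] T') (f : A →ₐ[R] MonoidAlgebra T Γ) (n : Γ) :
    (1 - mat a ((MonoidAlgebra.mapAlgHom Γ g).comp f) n).det = g (1 - mat a f n).det := by
  rw [mat_map, show g (1 - mat a f n).det = g.toRingHom (1 - mat a f n).det from rfl, RingHom.map_det,
    RingHom.mapMatrix_apply, Matrix.map_sub _ (fun x y => map_sub g.toRingHom x y),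
    Matrix.map_one _ (map_zero g.toRingHom) (map_one g.toRingHom)]
  rfl

theorem Good.map {T' : Type u} [CommRing T'] [Algebra R T'] (g : T →ₐ[R] T') {F : Finset Γ}
    {f : A →ₐ[R] MonoidAlgebra T Γ} (h : Good a F f) : Good a F ((MonoidAlgebra.mapAlgHom Γ g).comp f) :=
  fun n hn => by rw [det_map]; exact (h n hn).map g

theorem Good.mono {F F' : Finset Γ} (hF : F ⊆ F') {f : A →ₐ[R] MonoidAlgebra T Γ} (h : Good a F f) :
    Good a F' f := fun n hn => h n fun hn' => hn (hF hn')

theorem Good.inter [DecidableEq Γ] {F F' : Finset Γ} {f : A →ₐ[R] MonoidAlgebra T Γ} (h : Good a F f)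
    (h' : Good a F' f) : Good a (F ∩ F') f := fun n hn => by
  rw [Finset.mem_inter, not_and_or] at hn
  exact hn.elim (h n) (h' n)

theorem det_eq_one [DecidableEq Γ] (f : A →ₐ[R] MonoidAlgebra T Γ) {n : Γ}
    (hn : n ∉ Finset.univ.biUnion fun j => Finset.univ.biUnion fun i => (f (a j i)).coeff.support) :
    (1 - mat a f n).det = 1 := by
  have h : mat a f n = 0 := by
    ext j i
    simp only [Finset.mem_biUnion, Finset.mem_univ, true_and, Finsupp.mem_support_iff, not_exists, not_not] at hn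
    exact hn j i
  rw [h, sub_zero, Matrix.det_one]

theorem exists_good (f : A →ₐ[R] MonoidAlgebra T Γ) : ∃ F : Finset Γ, Good a F f := by
  classical
  exact ⟨_, fun n hn => by rw [det_eq_one f hn]; exact isUnit_one⟩

theorem Good.of_nilpotent_ker {T₀ : Type u} [CommRing T₀] [Algebra R T₀] (p : T →ₐ[R] T₀) (hp : Function.Surjective p)
    (hn : IsNilpotent (RingHom.ker p)) {F : Finset Γ} {f : A →ₐ[R] MonoidAlgebra T Γ}
    (h : Good a F ((MonoidAlgebra.mapAlgHom Γ p).comp f)) : Good a F f := fun n hn' => by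
  obtain ⟨e, he⟩ := (det_map p f n ▸ h n hn').exists_right_inv
  obtain ⟨e, rfl⟩ := hp e
  have hmem : (1 - mat a f n).det * e - 1 ∈ RingHom.ker p := by
    rw [RingHom.mem_ker, map_sub, map_mul, map_one, he, sub_self]
  obtain ⟨k, hk⟩ := hn
  have hnil : IsNilpotent ((1 - mat a f n).det * e - 1) :=
    ⟨k, by simpa [hk] using Ideal.pow_mem_pow hmem k⟩
  have := hnil.isUnit_add_one
  rw [sub_add_cancel] at this
  exact isUnit_of_mul_isUnit_left this

theorem conv2_map {T' : Type u} [CommRing T'] [Algebra R T'] (g : T →ₐ[R] T') (f : A →ₐ[R] MonoidAlgebra T Γ) :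
    conv2 ((MonoidAlgebra.mapAlgHom Γ g).comp f) = (MonoidAlgebra.mapAlgHom (Γ × Γ) g).comp (conv2 f) := by
  refine AlgHom.ext fun x => ?_
  simp only [conv2, AlgHom.comp_apply, Bialgebra.comulAlgHom_apply]
  have nat : ∀ (φ : Γ →* Γ × Γ) (z : MonoidAlgebra T Γ),
      MonoidAlgebra.mapDomainAlgHom R T' φ (MonoidAlgebra.mapAlgHom Γ g z) =
        MonoidAlgebra.mapAlgHom (Γ × Γ) g (MonoidAlgebra.mapDomainAlgHom R T φ z) := fun φ z => by
    induction z using MonoidAlgebra.induction_linear with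
    | zero => simp
    | add p q hp hq => simp only [map_add, hp, hq]
    | single k r => simp [MonoidAlgebra.mapAlgHom]
  induction Coalgebra.comul (R := R) x with
  | zero => simp
  | add p q hp hq => simp only [map_add, hp, hq]
  | tmul p q => simp only [Algebra.TensorProduct.lift_tmul, AlgHom.comp_apply, map_mul, nat]

theorem dup_map {T' : Type u} [CommRing T'] [Algebra R T'] (g : T →ₐ[R] T') (f : A →ₐ[R] MonoidAlgebra T Γ) :
    dup ((MonoidAlgebra.mapAlgHom Γ g).comp f) = (MonoidAlgebra.mapAlgHom (Γ × Γ) g).comp (dup f) := by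
  refine AlgHom.ext fun x => ?_
  simp only [dup, AlgHom.comp_apply]
  induction f x using MonoidAlgebra.induction_linear with
  | zero => simp
  | add p q hp hq => simp only [map_add, hp, hq]
  | single k r => simp [MonoidAlgebra.mapAlgHom]

theorem IsHomPt.map {T' : Type u} [CommRing T'] [Algebra R T'] (g : T →ₐ[R] T') {f : A →ₐ[R] MonoidAlgebra T Γ}
    (h : IsHomPt f) : IsHomPt ((MonoidAlgebra.mapAlgHom Γ g).comp f) := by
  rw [IsHomPt, conv2_map, dup_map, h]

omit [CommGroup Γ] in
/-- Killing the coefficients of finitely many elements of a monoid algebra. -/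
theorem exists_kill {Δ : Type} [CommMonoid Δ] (Q : Type u) [CommRing Q] [Algebra R Q] [Algebra.FinitePresentation R Q]
    (s : Finset (MonoidAlgebra Q Δ)) :
    ∃ (Q' : Type u) (_ : CommRing Q') (_ : Algebra R Q') (π : Q →ₐ[R] Q'),
      Algebra.FinitePresentation R Q' ∧ Function.Surjective π ∧ (∀ z ∈ s, MonoidAlgebra.mapAlgHom Δ π z = 0) ∧
      ∀ (T : Type u) [CommRing T] [Algebra R T] (g : Q →ₐ[R] T), (∀ z ∈ s, MonoidAlgebra.mapAlgHom Δ g z = 0) →
        ∃ g' : Q' →ₐ[R] T, g'.comp π = g := by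
  classical
  let t : Finset Q := s.biUnion fun z => z.coeff.support.image fun m => z.coeff m
  let I : Ideal Q := Ideal.span (t : Set Q)
  haveI : Algebra.FinitePresentation R (Q ⧸ I) := Algebra.FinitePresentation.quotient ⟨t, rfl⟩
  refine ⟨Q ⧸ I, inferInstance, inferInstance, Ideal.Quotient.mkₐ R I, inferInstance,
    Ideal.Quotient.mkₐ_surjective R I, fun z hz => ?_, fun T _ _ g hg => ?_⟩
  · ext m
    rw [coeff_mapAlgHom, coeff_zero, Finsupp.zero_apply, Ideal.Quotient.mkₐ_eq_mk, Ideal.Quotient.eq_zero_iff_mem]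
    by_cases hm : m ∈ z.coeff.support
    · exact Ideal.subset_span (Finset.mem_coe.2 (Finset.mem_biUnion.2 ⟨z, hz, Finset.mem_image_of_mem _ hm⟩))
    · rw [Finsupp.notMem_support_iff.1 hm]
      exact I.zero_mem
  · have hle : I ≤ RingHom.ker g := Ideal.span_le.2 fun q hq => by
      obtain ⟨z, hz, hq⟩ := Finset.mem_biUnion.1 (Finset.mem_coe.1 hq)
      obtain ⟨m, -, rfl⟩ := Finset.mem_image.1 hq
      show g (z.coeff m) = 0
      rw [← coeff_mapAlgHom, hg z hz]
      simp
    exact ⟨Ideal.Quotient.liftₐ I g fun q hq => hle hq, AlgHom.ext fun q => rfl⟩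

/-- The universal point with weights in `F`. -/
theorem exists_univ [Algebra.FinitePresentation R A] (hgen : Algebra.adjoin R (Set.range y) = ⊤)
    (hΔ : ∀ i, Coalgebra.comul (R := R) (y i) = ∑ j, y j ⊗ₜ[R] a j i) (F : Finset Γ) :
    ∃ (Q : Type u) (_ : CommRing Q) (_ : Algebra R Q) (u : A →ₐ[R] MonoidAlgebra Q Γ),
      Algebra.FinitePresentation R Q ∧ IsHomPt u ∧ Good a F u ∧
      ∀ (T : Type u) [CommRing T] [Algebra R T] (f : A →ₐ[R] MonoidAlgebra T Γ), IsHomPt f → Good a F f →
        ∃! g : Q →ₐ[R] T, (MonoidAlgebra.mapAlgHom Γ g).comp u = f := by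
  classical
  let P := MvPolynomial (Fin N × F) R
  let θ : MvPolynomial (Fin N) R →ₐ[R] MonoidAlgebra P Γ :=
    MvPolynomial.aeval fun i => ∑ m : F, MonoidAlgebra.single (m : Γ) (MvPolynomial.X (i, m))
  let π : MvPolynomial (Fin N) R →ₐ[R] A := MvPolynomial.aeval y
  have hπ : Function.Surjective π := by
    rw [← AlgHom.range_eq_top, ← Algebra.adjoin_range_eq_range_aeval, hgen]
  obtain ⟨s, hs⟩ := Algebra.FinitePresentation.ker_fG_of_surjective π hπ
  obtain ⟨Q₀, _, _, π₀, _, hπ₀, hk₀, hu₀⟩ := exists_kill (R := R) P (s.image θ)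
  let θ₀ : MvPolynomial (Fin N) R →ₐ[R] MonoidAlgebra Q₀ Γ := (MonoidAlgebra.mapAlgHom Γ π₀).comp θ
  have hker : RingHom.ker π.toRingHom ≤ RingHom.ker θ₀.toRingHom := by
    rw [← hs, Ideal.span_le]
    exact fun g hg => hk₀ (θ g) (Finset.mem_image_of_mem _ hg)
  let f₀ : A →ₐ[R] MonoidAlgebra Q₀ Γ := AlgHom.liftOfSurjective π hπ θ₀ hker
  have hf₀ : ∀ i, f₀ (y i) = ∑ m : F, MonoidAlgebra.single (m : Γ) (π₀ (MvPolynomial.X (i, m))) := fun i => by
    have h : f₀ (π (MvPolynomial.X i)) = θ₀ (MvPolynomial.X i) := AlgHom.liftOfSurjective_apply π hπ θ₀ hker _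
    simp only [π, MvPolynomial.aeval_X] at h
    simp [h, θ₀, θ, MonoidAlgebra.mapAlgHom]
  obtain ⟨Q₁, _, _, π₁, _, hπ₁, hk₁, hu₁⟩ :=
    exists_kill (R := R) Q₀ (Finset.univ.image fun i => conv2 f₀ (y i) - dup f₀ (y i))
  let f₁ := (MonoidAlgebra.mapAlgHom Γ π₁).comp f₀
  have hf₁ : IsHomPt f₁ := by
    refine AlgHom.ext_of_adjoin_eq_top hgen ?_
    rintro _ ⟨i, rfl⟩
    have h := hk₁ _ (Finset.mem_image_of_mem _ (Finset.mem_univ i))
    rw [map_sub, sub_eq_zero] at h
    rw [conv2_map, dup_map, AlgHom.comp_apply, AlgHom.comp_apply]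
    exact h
  let Φ := Finset.univ.biUnion fun j => Finset.univ.biUnion fun i => (f₁ (a j i)).coeff.support
  let d : Q₁ := ∏ n ∈ Φ \ F, (1 - mat a f₁ n).det
  let Q := Localization.Away d
  haveI : Algebra.FinitePresentation Q₁ Q := IsLocalization.Away.finitePresentation d
  haveI : Algebra.FinitePresentation R Q := Algebra.FinitePresentation.trans R Q₁ Q
  let ℓ : Q₁ →ₐ[R] Q := IsScalarTower.toAlgHom R Q₁ Q
  let u := (MonoidAlgebra.mapAlgHom Γ ℓ).comp f₁
  have hgood : Good a F u := fun n hn => by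
    rw [det_map]
    by_cases hΦ : n ∈ Φ
    · have hd : IsUnit (ℓ d) := IsLocalization.map_units Q (⟨d, Submonoid.mem_powers d⟩ : Submonoid.powers d)
      rw [map_prod] at hd
      exact (IsUnit.prod_iff.1 hd) n (Finset.mem_sdiff.2 ⟨hΦ, hn⟩)
    · rw [det_eq_one f₁ hΦ, map_one]; exact isUnit_one
  refine ⟨Q, inferInstance, inferInstance, u, inferInstance, hf₁.map ℓ, hgood, fun T _ _ f hf hF => ?_⟩
  let g : P →ₐ[R] T := MvPolynomial.aeval fun p => (f (y p.1)).coeff (p.2 : Γ)
  have hsupp : ∀ i, f (y i) = ∑ m : F, MonoidAlgebra.single (m : Γ) ((f (y i)).coeff m) := fun i => by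
    rw [Finset.sum_coe_sort F fun m => MonoidAlgebra.single m ((f (y i)).coeff m)]
    ext n
    simp only [coeff_sum, Finsupp.finsetSum_apply, coeff_single, Finsupp.single_apply, Finset.sum_ite_eq']
    by_cases hn : n ∈ F
    · rw [if_pos hn]
    · rw [if_neg hn, coeff_eq_zero hΔ hf (hF n hn)]
  have hgθ : (MonoidAlgebra.mapAlgHom Γ g).comp θ = f.comp π := MvPolynomial.algHom_ext fun i => by
    rw [AlgHom.comp_apply, AlgHom.comp_apply]
    simp only [θ, π, MvPolynomial.aeval_X]
    rw [hsupp i, map_sum]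
    refine Finset.sum_congr rfl fun m _ => ?_
    simp only [g, MonoidAlgebra.mapAlgHom, AlgHom.coe_mk, MonoidAlgebra.mapRingHom_single]
    exact congrArg (MonoidAlgebra.single (m : Γ)) (MvPolynomial.aeval_X (fun p : Fin N × F => (f (y p.1)).coeff (p.2 : Γ)) (i, m))
  obtain ⟨g₀, hg₀⟩ := hu₀ T g fun z hz => by
    obtain ⟨p, hp, rfl⟩ := Finset.mem_image.1 hz
    have h0 : π p = 0 := (hs ▸ Ideal.subset_span hp : p ∈ RingHom.ker π.toRingHom)
    rw [← AlgHom.comp_apply, hgθ, AlgHom.comp_apply, h0, map_zero]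
  have hg₀f : (MonoidAlgebra.mapAlgHom Γ g₀).comp f₀ = f := by
    refine AlgHom.ext_of_adjoin_eq_top hgen ?_
    rintro _ ⟨i, rfl⟩
    rw [AlgHom.comp_apply, hf₀, hsupp i]
    simp only [map_sum]
    refine Finset.sum_congr rfl fun m _ => ?_
    have h : g₀ (π₀ (MvPolynomial.X (i, m))) = (f (y i)).coeff (m : Γ) := (AlgHom.congr_fun hg₀ _).trans
      (MvPolynomial.aeval_X (fun p : Fin N × F => (f (y p.1)).coeff (p.2 : Γ)) (i, m))
    simp [MonoidAlgebra.mapAlgHom, h]
  obtain ⟨g₁, hg₁⟩ := hu₁ T g₀ fun z hz => by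
    obtain ⟨i, -, rfl⟩ := Finset.mem_image.1 hz
    rw [map_sub, sub_eq_zero, ← AlgHom.comp_apply, ← AlgHom.comp_apply (MonoidAlgebra.mapAlgHom _ g₀), ← conv2_map,
      ← dup_map, hg₀f, hf]
  have hg₁f : (MonoidAlgebra.mapAlgHom Γ g₁).comp f₁ = f := by
    refine AlgHom.ext fun x => ?_
    rw [← hg₀f]
    ext n
    simp [f₁, ← hg₁]
  have hd : IsUnit (g₁ d) := by
    rw [map_prod]
    refine IsUnit.prod_iff.2 fun n hn => ?_
    rw [← det_map, hg₁f]
    exact hF n (Finset.mem_sdiff.1 hn).2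
  let gQ : Q →ₐ[R] T := IsLocalization.liftAlgHom (M := Submonoid.powers d) (f := g₁)
    (by rintro ⟨_, k, rfl⟩; simpa using hd.pow k)
  have hgQ : ∀ q, gQ (ℓ q) = g₁ q := fun q => IsLocalization.lift_eq _ q
  refine ⟨gQ, ?_, fun g' hg' => ?_⟩
  · refine AlgHom.ext fun x => ?_
    rw [← hg₁f]
    ext n
    simp [u, hgQ]
  · refine IsLocalization.algHom_ext (Submonoid.powers d) ?_
    refine AlgHom.ext fun q => ?_
    show g' (ℓ q) = gQ (ℓ q)
    obtain ⟨q, rfl⟩ := hπ₁ q
    obtain ⟨q, rfl⟩ := hπ₀ q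
    have : (g'.comp ℓ).comp (π₁.comp π₀) = (gQ.comp ℓ).comp (π₁.comp π₀) := MvPolynomial.algHom_ext fun p => by
      obtain ⟨i, m, hm⟩ := p
      have h1 : (u (y i)).coeff m = ℓ (π₁ (π₀ (MvPolynomial.X (i, ⟨m, hm⟩)))) := by
        simp only [u, f₁, AlgHom.comp_apply, coeff_mapAlgHom, hf₀, coeff_sum, Finsupp.finsetSum_apply, coeff_single,
          Finsupp.single_apply]
        rw [Finset.sum_eq_single ⟨m, hm⟩ (fun b _ hb => if_neg fun e => hb (Subtype.ext e)) (by simp), if_pos rfl]
      have h2 := congrArg (fun z => z.coeff m) (AlgHom.congr_fun hg' (y i))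
      simp only [AlgHom.comp_apply, coeff_mapAlgHom, h1] at h2
      show g' (ℓ (π₁ (π₀ _))) = gQ (ℓ (π₁ (π₀ _)))
      rw [h2, hgQ, show g₁ (π₁ (π₀ _)) = g₀ (π₀ _) from AlgHom.congr_fun hg₁ _,
        show g₀ (π₀ _) = g _ from AlgHom.congr_fun hg₀ _]
      exact (MvPolynomial.aeval_X (fun p : Fin N × F => (f (y p.1)).coeff (p.2 : Γ)) (i, ⟨m, hm⟩)).symm
    exact AlgHom.congr_fun this q

section Smooth

open MultType

variable {A : Type u} [CommRing A] [HopfAlgebra R A]

/-- Homomorphisms lift along nilpotent thickenings. -/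
theorem exists_lift [Algebra.FormallySmooth R A] {E E₀ : Type u} [CommRing E] [Algebra R E] [CommRing E₀]
    [Algebra R E₀] (p : E →ₐ[R] E₀) (hp : Function.Surjective p) (hn : IsNilpotent (RingHom.ker p))
    (f₀ : A →ₐ[R] MonoidAlgebra E₀ Γ) (hf₀ : IsHomPt f₀) :
    ∃ f : A →ₐ[R] MonoidAlgebra E Γ, IsHomPt f ∧ (MonoidAlgebra.mapAlgHom Γ p).comp f = f₀ := by
  classical
  let J : Ideal E := RingHom.ker p
  let P := MonoidAlgebra.mapAlgHom Γ p
  have hPs : Function.Surjective P := fun z => by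
    induction z using MonoidAlgebra.induction_linear with
    | zero => exact ⟨0, map_zero _⟩
    | add a b ha hb => obtain ⟨a, rfl⟩ := ha; obtain ⟨b, rfl⟩ := hb; exact ⟨a + b, map_add _ _ _⟩
    | single k r => obtain ⟨r, rfl⟩ := hp r; exact ⟨single k r, by simp [P, MonoidAlgebra.mapAlgHom]⟩
  have hmem : ∀ {Δ : Type} [CommGroup Δ] (z : MonoidAlgebra E Δ), MonoidAlgebra.mapAlgHom Δ p z = 0 →
      z ∈ J.map (algebraMap E (MonoidAlgebra E Δ)) := fun {Δ} _ z hz => by
    rw [← MonoidAlgebra.sum_coeff_single z]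
    refine Ideal.sum_mem _ fun k _ => ?_
    have hk : z.coeff k ∈ J := by
      have := congrArg (fun w => w.coeff k) hz
      simpa [J, RingHom.mem_ker] using this
    rw [show MonoidAlgebra.single k (z.coeff k) = algebraMap E (MonoidAlgebra E Δ) (z.coeff k) * MonoidAlgebra.single k 1
      by simp [MonoidAlgebra.coe_algebraMap, MonoidAlgebra.single_mul_single]]
    exact Ideal.mul_mem_right _ _ (Ideal.mem_map_of_mem _ hk)
  have hPn : IsNilpotent (RingHom.ker P) := by
    obtain ⟨k, hk⟩ := hn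
    refine ⟨k, eq_bot_iff.2 ((Ideal.pow_right_mono (show RingHom.ker P ≤ J.map (algebraMap E _) from fun z hz => hmem z hz) k).trans ?_)⟩
    rw [← Ideal.map_pow, show J ^ k = ⊥ from hk, Ideal.map_bot]
  let f' := Algebra.FormallySmooth.liftOfSurjective f₀ P hPs hPn
  have hf' : P.comp f' = f₀ := Algebra.FormallySmooth.comp_liftOfSurjective f₀ P hPs hPn
  let φ : E ⊗[R] A →ₐ[E] MonoidAlgebra E Γ :=
    Algebra.TensorProduct.lift (Algebra.ofId _ _) f' fun _ _ => Commute.all _ _
  have hφ : ∀ x, φ ((1 : E) ⊗ₜ[R] x) = f' x := fun x => by simp [φ, ← MonoidAlgebra.one_def]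
  let μ : MonoidAlgebra E (Γ × Γ) →ₐ[E] MonoidAlgebra E Γ ⊗[E] MonoidAlgebra E Γ :=
    MonoidAlgebra.lift E (MonoidAlgebra E Γ ⊗[E] MonoidAlgebra E Γ) (Γ × Γ)
      ((((Algebra.TensorProduct.includeLeft : MonoidAlgebra E Γ →ₐ[E] MonoidAlgebra E Γ ⊗[E] MonoidAlgebra E Γ) : MonoidAlgebra E Γ →* MonoidAlgebra E Γ ⊗[E] MonoidAlgebra E Γ).comp (MonoidAlgebra.of E Γ)).coprod
        (((Algebra.TensorProduct.includeRight : MonoidAlgebra E Γ →ₐ[E] MonoidAlgebra E Γ ⊗[E] MonoidAlgebra E Γ) : MonoidAlgebra E Γ →* MonoidAlgebra E Γ ⊗[E] MonoidAlgebra E Γ).comp (MonoidAlgebra.of E Γ)))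
  let κ : MonoidAlgebra E Γ ⊗[E] MonoidAlgebra E Γ →ₐ[E] MonoidAlgebra E (Γ × Γ) :=
    Algebra.TensorProduct.lift (MonoidAlgebra.mapDomainAlgHom E E (MonoidHom.inl Γ Γ))
      (MonoidAlgebra.mapDomainAlgHom E E (MonoidHom.inr Γ Γ)) fun _ _ => Commute.all _ _
  have hsing : ∀ (k l : Γ) (r t : E), MonoidAlgebra.single k r ⊗ₜ[E] MonoidAlgebra.single l t =
      (r * t) • (MonoidAlgebra.single k (1 : E) ⊗ₜ[E] MonoidAlgebra.single l (1 : E)) := fun k l r t => by
    conv_lhs => rw [show MonoidAlgebra.single k r = r • MonoidAlgebra.single k (1 : E) by simp [MonoidAlgebra.smul_single],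
      show MonoidAlgebra.single l t = t • MonoidAlgebra.single l (1 : E) by simp [MonoidAlgebra.smul_single]]
    rw [TensorProduct.smul_tmul_smul]
  have hμ : ∀ (k l : Γ) (r : E), μ (MonoidAlgebra.single (k, l) r) =
      r • (MonoidAlgebra.single k (1 : E) ⊗ₜ[E] MonoidAlgebra.single l (1 : E)) := fun k l r => by
    simp only [μ, MonoidAlgebra.lift_single, MonoidHom.coprod_apply, MonoidHom.comp_apply, MonoidAlgebra.of_apply,
      AlgHom.coe_toMonoidHom, MonoidHom.coe_coe, Algebra.TensorProduct.includeLeft_apply,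
      Algebra.TensorProduct.includeRight_apply, Algebra.TensorProduct.tmul_mul_tmul, mul_one, one_mul]
  have hμm : ∀ x z : MonoidAlgebra E Γ, μ (MonoidAlgebra.mapDomainAlgHom R E (MonoidHom.inl Γ Γ) x *
      MonoidAlgebra.mapDomainAlgHom R E (MonoidHom.inr Γ Γ) z) = x ⊗ₜ[E] z := fun x z => by
    induction x using MonoidAlgebra.induction_linear with
    | zero => simp
    | add a b ha hb => simp only [map_add, add_mul, TensorProduct.add_tmul, ha, hb]
    | single k r =>
      induction z using MonoidAlgebra.induction_linear with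
      | zero => simp
      | add a b ha hb => simp only [map_add, mul_add, TensorProduct.tmul_add, ha, hb]
      | single l t => simp [MonoidAlgebra.single_mul_single, hμ, hsing k l r t]
  have hμΔ : ∀ x : MonoidAlgebra E Γ, μ (MonoidAlgebra.mapDomainAlgHom R E ((MonoidHom.id Γ).prod (MonoidHom.id Γ)) x) =
      Coalgebra.comul (R := E) x := fun x => by
    induction x using MonoidAlgebra.induction_linear with
    | zero => simp
    | add a b ha hb => simp only [map_add, ha, hb]
    | single k r =>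
      conv_rhs => rw [show MonoidAlgebra.single k r = r • MonoidAlgebra.single k (1 : E) by simp [MonoidAlgebra.smul_single],
        map_smul]
      simp [hμ, MonoidAlgebra.comul_single]
  have hκΔ : ∀ x : MonoidAlgebra E Γ, κ (Coalgebra.comul (R := E) x) =
      MonoidAlgebra.mapDomainAlgHom R E ((MonoidHom.id Γ).prod (MonoidHom.id Γ)) x := fun x => by
    induction x using MonoidAlgebra.induction_linear with
    | zero => simp
    | add a b ha hb => simp only [map_add, ha, hb]
    | single k r => simp [κ, MonoidAlgebra.comul_single, MonoidAlgebra.single_mul_single]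
  have hD : DefectLE J φ := by
    intro c
    induction c using TensorProduct.induction_on with
    | zero => simp
    | add c c' hc hc' =>
      simp only [map_add]
      rw [add_sub_add_comm]
      exact Ideal.add_mem _ hc hc'
    | tmul e x =>
      rw [show e ⊗ₜ[R] x = e • ((1 : E) ⊗ₜ[R] x) by simp [TensorProduct.smul_tmul'], map_smul, map_smul, map_smul,
        map_smul, ← smul_sub]
      refine Submodule.smul_of_tower_mem _ e ?_
      have h1 : Algebra.TensorProduct.map φ φ (Coalgebra.comul (R := E) ((1 : E) ⊗ₜ[R] x)) = μ (conv2 f' x) := by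
        rw [TensorProduct.comul_tmul, CommSemiring.comul_apply, conv2, AlgHom.comp_apply, Bialgebra.comulAlgHom_apply]
        induction Coalgebra.comul (R := R) x with
        | zero => simp
        | add a b ha hb => simp only [TensorProduct.tmul_add, map_add, ha, hb]
        | tmul a b =>
          simp only [TensorProduct.AlgebraTensorModule.tensorTensorTensorComm_tmul, Algebra.TensorProduct.map_tmul,
            Algebra.TensorProduct.lift_tmul, AlgHom.comp_apply, hφ, hμm]
      rw [h1, hφ, ← hμΔ, ← map_sub]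
      have h2 : conv2 f' x - dup f' x ∈ J.map (algebraMap E (MonoidAlgebra E (Γ × Γ))) := hmem _ (by
        rw [map_sub, ← AlgHom.comp_apply, ← AlgHom.comp_apply (MonoidAlgebra.mapAlgHom _ p), ← conv2_map, ← dup_map,
          hf', hf₀, sub_self])
      have h3 := Ideal.mem_map_of_mem μ.toRingHom h2
      rw [Ideal.map_map, AlgHom.toRingHom_eq_coe, AlgHom.comp_algebraMap] at h3
      exact h3
  let l : MonoidAlgebra E Γ →ₗ[E] E :=
    { toFun := fun x => x.coeff 1
      map_add' := fun a b => by simp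
      map_smul' := fun r x => by simp }
  have hl : IsRightInt l := fun x => by
    induction x using MonoidAlgebra.induction_linear with
    | zero => simp
    | add a b ha hb => simp only [map_add, ha, hb, TensorProduct.add_tmul]
    | single k r =>
      by_cases hk : k = 1
      · subst hk; simp [l, MonoidAlgebra.comul_single, MonoidAlgebra.one_def, TensorProduct.smul_tmul',
          TensorProduct.smul_tmul, MonoidAlgebra.smul_single]
      · simp [l, MonoidAlgebra.comul_single, hk]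
  haveI : Algebra.FormallySmooth E (E ⊗[R] A) := inferInstance
  obtain ⟨ψ, hψ⟩ := MultType.exists_bialgHom l (by simp [l, MonoidAlgebra.one_def]) hl hn φ hD
  let f : A →ₐ[R] MonoidAlgebra E Γ :=
    ((ψ : E ⊗[R] A →ₐ[E] MonoidAlgebra E Γ).restrictScalars R).comp Algebra.TensorProduct.includeRight
  refine ⟨f, AlgHom.ext fun x => ?_, AlgHom.ext fun x => ?_⟩
  · have h := congrArg κ (CoalgHomClass.map_comp_comul_apply ψ ((1 : E) ⊗ₜ[R] x))
    rw [hκΔ] at h
    refine Eq.trans ?_ h
    rw [TensorProduct.comul_tmul, CommSemiring.comul_apply, conv2, AlgHom.comp_apply, Bialgebra.comulAlgHom_apply]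
    induction Coalgebra.comul (R := R) x with
    | zero => simp
    | add a b ha hb => simp only [TensorProduct.tmul_add, map_add, ha, hb]
    | tmul a b =>
      simp only [TensorProduct.AlgebraTensorModule.tensorTensorTensorComm_tmul, TensorProduct.map_tmul,
        Algebra.TensorProduct.lift_tmul, AlgHom.comp_apply, κ]
      rfl
  · rw [← hf']
    show P (ψ ((1 : E) ⊗ₜ[R] x)) = P (f' x)
    rw [← hφ, ← sub_eq_zero, ← map_sub]
    have h := Ideal.mem_map_of_mem P.toRingHom (hψ ((1 : E) ⊗ₜ[R] x))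
    have hbot : Ideal.map P.toRingHom (J.map (algebraMap E (MonoidAlgebra E Γ))) = ⊥ := by
      rw [Ideal.map_map, Ideal.map_eq_bot_iff_le_ker]
      intro r hr
      rw [RingHom.mem_ker]
      show P (algebraMap E (MonoidAlgebra E Γ) r) = 0
      simp [P, MonoidAlgebra.mapAlgHom, MonoidAlgebra.coe_algebraMap, show p r = 0 from hr]
    rw [hbot] at h
    exact h

/-- The schemes of homomorphisms with bounded weights are smooth. -/
theorem formallySmooth_univ [Algebra.FormallySmooth R A] {F : Finset Γ} {a : Fin N → Fin N → A}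
    {Q : Type u} [CommRing Q] [Algebra R Q] {u : A →ₐ[R] MonoidAlgebra Q Γ} (hu : IsHomPt u) (hg : Good a F u)
    (huniv : ∀ (T : Type u) [CommRing T] [Algebra R T] (f : A →ₐ[R] MonoidAlgebra T Γ), IsHomPt f → Good a F f →
        ∃! g : Q →ₐ[R] T, (MonoidAlgebra.mapAlgHom Γ g).comp u = f) :
    Algebra.FormallySmooth R Q := by
  refine Algebra.FormallySmooth.of_comp_surjective fun E _ _ K hK v => ?_
  have hn : IsNilpotent (RingHom.ker (Ideal.Quotient.mkₐ R K)) := ⟨2, by
    rw [show RingHom.ker (Ideal.Quotient.mkₐ R K) = K from Ideal.mk_ker]; exact hK⟩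
  obtain ⟨f, hf, hfp⟩ := exists_lift (Ideal.Quotient.mkₐ R K) Ideal.Quotient.mk_surjective hn
    ((MonoidAlgebra.mapAlgHom Γ v).comp u) (hu.map v)
  have hF : Good a F f := Good.of_nilpotent_ker _ Ideal.Quotient.mk_surjective hn (hfp ▸ hg.map v)
  obtain ⟨g, hgu, -⟩ := huniv E f hf hF
  refine ⟨g, (huniv _ _ (hu.map v) (hg.map v)).unique ?_ rfl⟩
  rw [← hfp, ← hgu]
  refine AlgHom.ext fun x => ?_
  ext n
  simp

end Smooth

end Groth.Agent.HomDM

end
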