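import Groth.Agent.WeilClosedLib.MultType
import Groth.Agent.WeilClosedLib.EssFree
import Groth.Agent.MaxTorus.ImageLocal
import Groth.Agent.HomRep.Glue

/-!
Homomorphisms into a closed subgroup form a closed subscheme.
-/

set_option autoImplicit false
set_option backward.isDefEq.respectTransparency false
set_option backward.isDefEq.respectTransparency.types false
set_option linter.style.haveILetI false

universe u

open CategoryTheory CategoryTheory.Limits MonoidalCategory CartesianMonoidalCategory MonObj AlgebraicGeometry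

noncomputable section

namespace Groth.Agent.HomDM

theorem isMultTypeLoc_DS (S : Scheme.{u}) (M : Type) [AddCommGroup M] :
    WeilClosedLib.IsMultTypeLoc (Red.DS S M) :=
  ⟨S, 𝟙 S, inferInstance, inferInstance, fun V hV => ⟨V, hV.isCompact, by simp⟩,
    fun _ => ⟨⊤, trivial, M, inferInstance, ⟨MaxTorus.dsBc _ M⟩⟩⟩

variable {S : Scheme.{u}} {D H G : Over S} [GrpObj D] [GrpObj H] [GrpObj G]

/-- The map of Hom schemes induced by a closed subgroup is a closed immersion. -/
theorem isClosedImmersion_induced (hD : SGA3x.IsEssentiallyFree D.hom)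
    (k : H ⟶ G) [IsMonHom k] [IsClosedImmersion k.left]
    {AH AG : Over S} {υH : D ⊗ AH ⟶ H} (hAH : AutFam.RepresentsHom D H AH υH)
    {υG : D ⊗ AG ⟶ G} (hAG : AutFam.RepresentsHom D G AG υG)
    (φ : AH ⟶ AG) (hφ : (D ◁ φ) ≫ υG = υH ≫ k) :
    IsClosedImmersion φ.left ∧
      (QuasiCompact D.hom → LocallyOfFinitePresentation k.left → LocallyOfFinitePresentation φ.left) := by
  haveI : Mono k := (Over.forget S).mono_of_mono_map (inferInstanceAs (Mono k.left))
  let f : (D ⊗ AG).left ⟶ AG.left := (snd D AG).left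
  have hf : SGA3x.IsEssentiallyFree f :=
    WeilClosedLib.isEssentiallyFree_baseChange D.hom AG.hom hD
  let j : pullback k.left υG.left ⟶ (D ⊗ AG).left := pullback.snd k.left υG.left
  obtain ⟨T, t, ht, hT, htfp⟩ := WeilClosedLib.exists_closed_of_essentiallyFree (j := j) hf
  -- `φ` factors through `T`
  have hfac : WeilClosedLib.FactorsOn f j φ.left := fun W a b hab => by
    let a' : Over.mk (b ≫ AH.hom) ⟶ D ⊗ AG := Over.homMk a (by
      show a ≫ (D ⊗ AG).hom = b ≫ AH.hom
      rw [← Over.w (snd D AG), ← Category.assoc, hab, Category.assoc, Over.w φ])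
    let b' : Over.mk (b ≫ AH.hom) ⟶ AH := Over.homMk b rfl
    have h : a' = lift (a' ≫ fst D AG) b' ≫ (D ◁ φ) := by
      refine CartesianMonoidalCategory.hom_ext _ _ (by simp) ?_
      rw [Category.assoc, whiskerLeft_snd, lift_snd_assoc]
      exact Over.OverMorphism.ext hab
    have h₂ : (lift (a' ≫ fst D AG) b' ≫ υH) ≫ k = a' ≫ υG := by
      rw [Category.assoc, ← hφ, ← Category.assoc, ← h]
    exact ⟨pullback.lift (lift (a' ≫ fst D AG) b' ≫ υH).left a
      (congrArg CommaMorphism.left h₂), pullback.lift_snd _ _ _⟩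
  obtain ⟨l, hl⟩ := (hT _ φ.left).2 hfac
  -- the restricted family lifts
  let T' : Over S := Over.mk (t ≫ AG.hom)
  let t' : T' ⟶ AG := Over.homMk t rfl
  obtain ⟨θ, hθ⟩ := (hT _ t).1 ⟨𝟙 T, Category.id_comp t⟩ (D ◁ t').left (snd D T').left
    (congrArg CommaMorphism.left (whiskerLeft_snd D t'))
  let θ' : D ⊗ T' ⟶ H := Over.homMk (θ ≫ pullback.fst k.left υG.left) (by
    rw [← Over.w k, Category.assoc, ← Category.assoc (pullback.fst k.left υG.left), pullback.condition]
    rw [Category.assoc, Over.w υG, ← Category.assoc, hθ, Over.w])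
  have hθ' : θ' ≫ k = (D ◁ t') ≫ υG := by
    ext
    show (θ ≫ pullback.fst k.left υG.left) ≫ k.left = (D ◁ t').left ≫ υG.left
    rw [Category.assoc, pullback.condition, ← hθ, Category.assoc]
  have hfam : AutFam.IsHomFamily D H θ' := fun X g₁ g₂ x => by
    rw [← cancel_mono k, MonObj.mul_comp, Category.assoc, Category.assoc, Category.assoc, hθ']
    exact HomRep.isHomFamily_comp t' hAG.1 X g₁ g₂ x
  obtain ⟨m, hm, -⟩ := hAH.2 T' θ' hfam
  have hm' : m ≫ φ = t' := by
    refine (hAG.2 T' _ (HomRep.isHomFamily_comp t' hAG.1)).unique ?_ rfl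
    rw [MonoidalCategory.whiskerLeft_comp, Category.assoc, hφ, ← Category.assoc, hm, hθ']
  let l' : AH ⟶ T' := Over.homMk l (by show l ≫ t ≫ AG.hom = _; rw [reassoc_of% hl, Over.w φ])
  have hl' : l' ≫ t' = φ := Over.OverMorphism.ext hl
  have h₁ : l' ≫ m = 𝟙 AH := by
    refine (hAH.2 AH υH hAH.1).unique ?_ (by simp)
    rw [← cancel_mono k, MonoidalCategory.whiskerLeft_comp, Category.assoc, Category.assoc, reassoc_of% hm, hθ',
      ← Category.assoc, ← MonoidalCategory.whiskerLeft_comp, hl', hφ]
  haveI : IsClosedImmersion t := ht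
  have h₂ : m.left ≫ l = 𝟙 T := by
    refine (cancel_mono t).1 ?_
    show (m.left ≫ l) ≫ t = 𝟙 T ≫ t
    rw [Category.id_comp]
    exact ((Category.assoc _ _ _).trans (congrArg (fun z => m.left ≫ z) hl)).trans (congrArg CommaMorphism.left hm')
  haveI : IsIso l := ⟨m.left, congrArg CommaMorphism.left h₁, h₂⟩
  refine ⟨hl ▸ inferInstance, fun hq hk => ?_⟩
  haveI : QuasiCompact f := MorphismProperty.pullback_snd (P := @QuasiCompact) D.hom AG.hom hq
  haveI := htfp ⟨inferInstance, MorphismProperty.pullback_snd (P := @LocallyOfFinitePresentation) k.left υG.left hk⟩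
  exact hl ▸ inferInstance

end Groth.Agent.HomDM

end
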