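import Groth.Agent.HomDM.Union
import Groth.Agent.MultBridge.Chart
import Groth.Agent.HomRep.Local
import Groth.Agent.HomRep.Finite
import Groth.Agent.AmpleLib.IndQA
import Groth.Agent.SchDesc.IndQAFpqc
import Groth.Agent.SchDesc.Effective
import Groth.Agent.FpqcDesc.Basic
import Mathlib.AlgebraicGeometry.Morphisms.Descent

/-!
Homomorphisms from a quasi-isotrivial group of multiplicative type into a smooth affine group.
-/

set_option autoImplicit false
set_option backward.isDefEq.respectTransparency false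
set_option backward.isDefEq.respectTransparency.types false
set_option linter.style.haveILetI false

universe u

open CategoryTheory CategoryTheory.Limits MonoidalCategory CartesianMonoidalCategory MonObj AlgebraicGeometry

noncomputable section

namespace Groth.Agent.HomDM

/-- A disjoint union of ind-quasi-affine morphisms is ind-quasi-affine. -/
theorem indQA_sigmaMap {J : Type u} {Y V : J → Scheme.{u}} (q : ∀ i, Y i ⟶ V i)
    (hq : ∀ i, MoreMor.IsIndQuasiAffineHom (q i)) : MoreMor.IsIndQuasiAffineHom (Limits.Sigma.map q) := by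
  let f := Limits.Sigma.map q
  refine (AmpleLib.IndQA.iff_forall f).2 fun O hO U hUO hU => AmpleLib.IndQA.of_cover hO hUO hU fun y hy => ?_
  obtain ⟨i, y', hy'⟩ := (sigmaOpenCover V).exists_eq y
  obtain ⟨D, hD, hyD, hle⟩ := exists_isAffineOpen_mem_and_subset (x := y)
    (U := O ⊓ (Sigma.ι V i).opensRange) ⟨hy, y', hy'⟩
  refine ⟨D, hD, fun z hz => (hle hz).1, hyD, fun U₁ h₁ _ hU₁ => ?_⟩
  let j := Sigma.ι Y i
  have hr : (U₁ : Set (∐ Y : Scheme.{u})) ⊆ Set.range j := by
    intro z hz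
    obtain ⟨v, hv⟩ := (hle (h₁ hz)).2
    obtain ⟨w, hw, -⟩ := Scheme.exists_preimage_of_isPullback (SchDesc.isPullback_sigmaMap q i) z v hv.symm
    exact ⟨w, hw⟩
  have hc : IsCompact (j ⁻¹' (U₁ : Set (∐ Y : Scheme.{u}))) :=
    j.isOpenEmbedding.isEmbedding.isInducing.isCompact_preimage' hU₁ hr
  have hD' : IsAffineOpen (Sigma.ι V i ⁻¹ᵁ D) := by
    rw [← (Sigma.ι V i).isAffineOpen_iff_of_isOpenImmersion, Scheme.Hom.image_preimage_eq_opensRange_inf,
      inf_eq_right.2 fun z hz => (hle hz).2]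
    exact hD
  haveI := (AmpleLib.IndQA.iff_forall (q i)).1 (hq i) _ hD' (j ⁻¹ᵁ U₁) (fun w hw => by
    show Sigma.ι V i (q i w) ∈ D
    have h : f (j w) ∈ D := h₁ hw
    rw [← Scheme.Hom.comp_apply] at h ⊢
    rwa [← Limits.Sigma.ι_map]) hc
  have h2 := QAffLib.image_qa (f := j) (j ⁻¹ᵁ U₁)
  have e : j ''ᵁ (j ⁻¹ᵁ U₁) = U₁ := TopologicalSpace.Opens.ext (Set.image_preimage_eq_of_subset hr)
  rwa [e] at h2

/-- Descent of ind-quasi-affine schemes. -/
theorem effective_of_indQA {X S : Scheme.{u}} {p : X ⟶ S} [SchDesc.IsFpqc p] (D : _root_.Desc.SchDD p)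
    (hD : MoreMor.IsIndQuasiAffineHom D.obj.hom) : ∃ U : Over S, Nonempty ((_root_.Desc.toDD p).obj U ≅ D) := by
  obtain ⟨Q⟩ := SchDesc.quot_top_of_affine (fun _ _ g => MoreMor.IsIndQuasiAffineHom g)
    (fun f g hf => AmpleLib.IndQA.baseChange (IsPullback.of_hasPullback f g) hf) D hD
    fun Q U l q i hQ hU _ _ _ _ _ _ D' hD' =>
      SchDesc.quot_of_indQuasiAffine_fpqc D' fun W hW =>
        (AmpleLib.IndQA.iff_forall _).1 hD' ⊤ (isAffineOpen_top Q) W le_top hW
  exact Q.effective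

/-- Over an affine base. -/
theorem exists_representsHom_affine (R : Type u) [CommRing R] (H G : Over (Spec (CommRingCat.of R))) [GrpObj H] [GrpObj G]
    {M : Type} [AddCommGroup M] (eH : Grp.mk H ≅ Grp.mk (Red.DS (Spec (CommRingCat.of R)) M)) [Smooth G.hom]
    [IsAffineHom G.hom] :
    ∃ (AA : Over (Spec (CommRingCat.of R))) (υ : H ⊗ AA ⟶ G), AutFam.RepresentsHom H G AA υ ∧
      Smooth AA.hom ∧ IsSeparated AA.hom ∧ MoreMor.IsIndQuasiAffineHom AA.hom := by
  obtain ⟨A, _, _, ⟨e⟩⟩ := MultBridge.exists_hopf R G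
  haveI : Algebra.Smooth R A := by
    have h := MultBridge.prop_algebraMap e @Smooth ‹_›
    rw [HasRingHomProperty.Spec_iff (P := @Smooth)] at h
    exact RingHom.smooth_algebraMap.1 h
  obtain ⟨AA, υ, h, h₁, h₂, h₃⟩ := exists_representsHom_spec (R := R) M (A := A)
  exact ⟨AA, _, HomRep.representsHom_of_iso eH e.symm h, h₁, h₂, h₃⟩

/-- Homomorphisms from an etale locally diagonalisable group into a smooth affine group. -/
theorem exists_representsHom {S : Scheme.{u}} (H G : Over S) [GrpObj H] [GrpObj G]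
    (hH : TwC.Locally S TwC.Topology.etale (fun S' g => ∃ (M : Type) (_ : AddCommGroup M),
      Nonempty (Grp.mk (Red.bc g H) ≅ Grp.mk (Red.DS S' M))))
    [Smooth G.hom] [IsAffineHom G.hom] :
    ∃ (A : Over S) (υ : H ⊗ A ⟶ G), AutFam.RepresentsHom H G A υ ∧ Smooth A.hom ∧ IsSeparated A.hom := by
  choose S' f hf hs M hM eH using hH
  letI := hM
  choose x hx using hs
  let W : ∀ s, (S' s).Opens := fun s => (exists_isAffineOpen_mem_and_subset (x := x s) (U := ⊤) trivial).choose
  have hW : ∀ s, IsAffineOpen (W s) := fun s =>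
    (exists_isAffineOpen_mem_and_subset (x := x s) (U := ⊤) trivial).choose_spec.1
  have hxW : ∀ s, x s ∈ W s := fun s =>
    (exists_isAffineOpen_mem_and_subset (x := x s) (U := ⊤) trivial).choose_spec.2.1
  let p : ∀ s, Spec Γ(S' s, W s) ⟶ S := fun s => (hW s).fromSpec ≫ f s
  haveI : ∀ s, Etale (p s) := fun s => by haveI := hf s; infer_instance
  have hloc : ∀ s, ∃ (A : Over (Spec Γ(S' s, W s))) (υ : H ⊗ (Over.map (p s)).obj A ⟶ G),
      HomRep.RepOn (p s) A υ ∧ Smooth A.hom ∧ IsSeparated A.hom ∧ MoreMor.IsIndQuasiAffineHom A.hom := fun s => by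
    obtain ⟨e₀⟩ := eH s
    obtain ⟨e⟩ := MultBridge.split_comp e₀ (hW s).fromSpec (d := p s) rfl
    haveI : Smooth (Red.bc (p s) G).hom := MorphismProperty.pullback_snd (P := @Smooth) G.hom (p s) ‹_›
    haveI : IsAffineHom (Red.bc (p s) G).hom := MorphismProperty.pullback_snd (P := @IsAffineHom) G.hom (p s) ‹_›
    obtain ⟨A, υ', h, h₁, h₂, h₃⟩ :=
      exists_representsHom_affine Γ(S' s, W s) (Red.bc (p s) H) (Red.bc (p s) G) e
    obtain ⟨υ, hυ⟩ := HomRep.exists_repOn_of_representsHom (p s) h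
    exact ⟨A, υ, hυ, h₁, h₂, h₃⟩
  choose A υ hυ hsm hsep hqa using hloc
  obtain ⟨υA, hυA⟩ := HomRep.exists_repOn_sigma p A υ hυ
  let P := Limits.Sigma.desc p
  haveI : Etale P := IsZariskiLocalAtSource.sigmaDesc fun s => inferInstance
  haveI : Surjective P := ⟨fun s => by
    obtain ⟨w, hw⟩ : x s ∈ Set.range (hW s).fromSpec := by rw [(hW s).range_fromSpec]; exact hxW s
    refine ⟨Sigma.ι (fun s => Spec Γ(S' s, W s)) s w, ?_⟩
    rw [← Scheme.Hom.comp_apply, Sigma.ι_desc, Scheme.Hom.comp_apply, hw, hx]⟩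
  haveI : SchDesc.IsFpqc P := SchDesc.IsFpqc.of_locallyOfFinitePresentation _
  obtain ⟨U, υU, hU, q, hq⟩ := HomRep.exists_representsHom hυA fun D hD => effective_of_indQA D (by
    rw [hD]; exact indQA_sigmaMap _ hqa)
  haveI := FpqcDesc.isSeparated_descends.{u}
  refine ⟨U, υU, hU, ?_, ?_⟩
  · exact MorphismProperty.of_isPullback_of_descendsAlong (P := @Smooth)
      (Q := (@Surjective ⊓ @Flat ⊓ @LocallyOfFinitePresentation : MorphismProperty Scheme.{u})) hq.flip
      ⟨⟨inferInstance, inferInstance⟩, inferInstance⟩ (SchDesc.prop_sigmaMap @Smooth _ hsm)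
  · exact MorphismProperty.of_isPullback_of_descendsAlong (P := @IsSeparated)
      (Q := (@Surjective ⊓ @Flat ⊓ @LocallyOfFinitePresentation : MorphismProperty Scheme.{u})) hq.flip
      ⟨⟨inferInstance, inferInstance⟩, inferInstance⟩ (SchDesc.prop_sigmaMap @IsSeparated _ hsep)

end Groth.Agent.HomDM

end
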