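import Groth.Agent.HomDM.Alg
import Groth.Agent.MultClosed.Points
import Groth.Agent.FixedSmooth.Props
import Groth.Prelude.Def_AutFam

/-!
Families of homomorphisms from a diagonalisable group into an affine group, in terms of algebras.
-/

set_option autoImplicit false
set_option backward.isDefEq.respectTransparency false
set_option backward.isDefEq.respectTransparency.types false
set_option linter.style.haveILetI false
set_option linter.unusedSectionVars false

universe u

open CategoryTheory CategoryTheory.Limits MonoidalCategory CartesianMonoidalCategory MonObj AlgebraicGeometry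

noncomputable section

namespace Groth.Agent.HomDM

open FixedSmooth DSMapLib

variable {R : Type u} [CommRing R]

/-- The structure map of an algebra. -/
abbrev qAlg (R : Type u) [CommRing R] (B : Type u) [CommRing B] [Algebra R B] :
    Spec (CommRingCat.of B) ⟶ Spec (CommRingCat.of R) :=
  Spec.map (CommRingCat.ofHom (algebraMap R B))

/-- The scheme of an algebra, over the base. -/
abbrev TO (R : Type u) [CommRing R] (B : Type u) [CommRing B] [Algebra R B] : Over (Spec (CommRingCat.of R)) :=
  Over.mk (qAlg R B)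

/-- The map of schemes of a map of algebras. -/
def sp {B C : Type u} [CommRing B] [Algebra R B] [CommRing C] [Algebra R C] (g : B →ₐ[R] C) : TO R C ⟶ TO R B :=
  Over.homMk (Spec.map (CommRingCat.ofHom g.toRingHom)) (by
    show Spec.map _ ≫ Spec.map _ = Spec.map _
    rw [← Spec.map_comp, ← CommRingCat.ofHom_comp]
    exact congrArg (fun φ => Spec.map (CommRingCat.ofHom φ)) g.comp_algebraMap)

theorem sp_comp {B C D : Type u} [CommRing B] [Algebra R B] [CommRing C] [Algebra R C] [CommRing D] [Algebra R D]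
    (g : B →ₐ[R] C) (h : C →ₐ[R] D) : sp h ≫ sp g = sp (h.comp g) := by
  refine Over.OverMorphism.ext ?_
  show Spec.map _ ≫ Spec.map _ = Spec.map _
  rw [← Spec.map_comp, ← CommRingCat.ofHom_comp]
  rfl

theorem sp_id (B : Type u) [CommRing B] [Algebra R B] : sp (AlgHom.id R B) = 𝟙 (TO R B) := by
  refine Over.OverMorphism.ext ?_
  show Spec.map _ = 𝟙 _
  exact Spec.map_id _

theorem exists_sp {B C : Type u} [CommRing B] [Algebra R B] [CommRing C] [Algebra R C] (m : TO R C ⟶ TO R B) :
    ∃ g : B →ₐ[R] C, sp g = m := by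
  refine ⟨{ (Spec.preimage m.left).hom with commutes' := fun r => ?_ }, Over.OverMorphism.ext ?_⟩
  · have h : CommRingCat.ofHom (algebraMap R B) ≫ Spec.preimage m.left = CommRingCat.ofHom (algebraMap R C) := by
      apply Spec.map_injective
      rw [Spec.map_comp, Spec.map_preimage]
      exact Over.w m
    exact congr($h r)
  · exact Spec.map_preimage _

section DS

variable (M : Type) [AddCommGroup M]

/-- Points of the diagonalisable group with values in an algebra. -/
def hPt (B : Type u) [CommRing B] [Algebra R B] :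
    (Multiplicative M →* B) ≃* (TO R B ⟶ Red.DS (Spec (CommRingCat.of R)) M) :=
  dsPt M (B := CommRingCat.of B) (qAlg R B)

theorem sp_hPt {B C : Type u} [CommRing B] [Algebra R B] [CommRing C] [Algebra R C] (g : B →ₐ[R] C)
    (χ : Multiplicative M →* B) : sp g ≫ hPt M B χ = hPt M C (g.toMonoidHom.comp χ) :=
  MultClosed.dsPt_nat (qAlg R B) (qAlg R C) (CommRingCat.ofHom g.toRingHom) _ χ

/-- The map of group algebras of a character and a map of coefficients. -/
def charL {B D : Type u} [CommRing B] [Algebra R B] [CommRing D] [Algebra R D] (g : B →ₐ[R] D)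
    (χ : Multiplicative M →* D) : MonoidAlgebra B (Multiplicative M) →ₐ[R] D :=
  MonoidAlgebra.liftNCAlgHom g χ fun _ _ => Commute.all _ _

variable {M}

theorem charL_single {B D : Type u} [CommRing B] [Algebra R B] [CommRing D] [Algebra R D] (g : B →ₐ[R] D)
    (χ : Multiplicative M →* D) (m : Multiplicative M) (b : B) :
    charL M g χ (MonoidAlgebra.single m b) = g b * χ m := by
  simp [charL]

theorem charL_eq {B D : Type u} [CommRing B] [Algebra R B] [CommRing D] [Algebra R D]
    (k : MonoidAlgebra B (Multiplicative M) →ₐ[R] D) :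
    charL M (k.comp MonoidAlgebra.singleOneAlgHom) (k.toMonoidHom.comp (MonoidAlgebra.of B (Multiplicative M))) = k := by
  refine AlgHom.ext fun x => ?_
  induction x using MonoidAlgebra.induction_linear with
  | zero => simp
  | add a b ha hb => simp only [map_add, ha, hb]
  | single m b =>
    rw [charL_single]
    show k (MonoidAlgebra.single 1 b) * k (MonoidAlgebra.single m 1) = _
    rw [← map_mul, MonoidAlgebra.single_mul_single, _root_.one_mul, _root_.mul_one]

variable (M)

/-- The universal point of the product with the parameter scheme. -/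
def univPt (B : Type u) [CommRing B] [Algebra R B] :
    TO R (MonoidAlgebra B (Multiplicative M)) ⟶ Red.DS (Spec (CommRingCat.of R)) M ⊗ TO R B :=
  lift (hPt M _ (MonoidAlgebra.of B (Multiplicative M))) (sp MonoidAlgebra.singleOneAlgHom)

theorem sp_charL_univPt {B D : Type u} [CommRing B] [Algebra R B] [CommRing D] [Algebra R D] (g : B →ₐ[R] D)
    (χ : Multiplicative M →* D) : sp (charL M g χ) ≫ univPt M B = lift (hPt M D χ) (sp g) := by
  rw [univPt, comp_lift, sp_hPt, sp_comp]
  congr 2
  · refine MonoidHom.ext fun m => ?_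
    show charL M g χ (MonoidAlgebra.single m 1) = χ m
    rw [charL_single, map_one, _root_.one_mul]
  · ext b
    show charL M g χ (MonoidAlgebra.single 1 b) = g b
    rw [charL_single, map_one, _root_.mul_one]

instance isIso_univPt (B : Type u) [CommRing B] [Algebra R B] : IsIso (univPt (R := R) M B) := by
  haveI : IsAffineHom (Red.DS (Spec (CommRingCat.of R)) M).hom := isAffineHom_DS _ M
  let Z := Red.DS (Spec (CommRingCat.of R)) M ⊗ TO R B
  haveI : IsAffineHom (pullback.snd (Red.DS (Spec (CommRingCat.of R)) M).hom (qAlg R B)) := inferInstance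
  haveI hZ : IsAffine Z.left := isAffine_of_isAffineHom (pullback.snd (Red.DS (Spec (CommRingCat.of R)) M).hom (qAlg R B))
  let c := Spec.preimage (Z.left.isoSpec.inv ≫ Z.hom)
  letI : Algebra R Γ(Z.left, ⊤) := c.hom.toAlgebra
  let ez : TO R Γ(Z.left, ⊤) ≅ Z := Over.isoMk Z.left.isoSpec.symm (Spec.map_preimage _).symm
  obtain ⟨χ, hχ⟩ := (hPt M _).surjective (ez.hom ≫ fst _ _)
  obtain ⟨g, hg⟩ := exists_sp (ez.hom ≫ snd _ _)
  let v : Z ⟶ TO R (MonoidAlgebra B (Multiplicative M)) := ez.inv ≫ sp (charL M g χ)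
  have hv : v ≫ univPt M B = 𝟙 Z := by
    rw [Category.assoc, sp_charL_univPt, hχ, hg, ← comp_lift, lift_fst_snd, Category.comp_id, Iso.inv_hom_id]
  refine ⟨⟨v, ?_, hv⟩⟩
  obtain ⟨k, hk⟩ := exists_sp (univPt M B ≫ v)
  have h : sp k ≫ univPt M B = univPt M B := by rw [hk, Category.assoc, hv, Category.comp_id]
  rw [← charL_eq k, sp_charL_univPt] at h
  have h1 := congrArg (· ≫ fst _ _) h
  have h2 := congrArg (· ≫ snd _ _) h
  simp only [univPt, lift_fst, lift_snd] at h1 h2
  have hk1 := (hPt M _).injective h1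
  have hk2 : k.comp MonoidAlgebra.singleOneAlgHom = MonoidAlgebra.singleOneAlgHom := by
    have h3 := Spec.map_injective (congrArg CommaMorphism.left h2)
    exact AlgHom.coe_ringHom_injective (congrArg CommRingCat.Hom.hom h3)
  have hid : k = AlgHom.id R _ := by
    refine AlgHom.ext fun x => ?_
    induction x using MonoidAlgebra.induction_linear with
    | zero => simp
    | add a b ha hb => simp only [map_add, ha, hb]
    | single m b =>
      have e1 : k (MonoidAlgebra.single m 1) = MonoidAlgebra.single m 1 := DFunLike.congr_fun hk1 m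
      have e2 : k (MonoidAlgebra.single 1 b) = MonoidAlgebra.single 1 b := AlgHom.congr_fun hk2 b
      have e : (MonoidAlgebra.single m b : MonoidAlgebra B (Multiplicative M)) =
          MonoidAlgebra.single 1 b * MonoidAlgebra.single m 1 := by
        rw [MonoidAlgebra.single_mul_single, _root_.one_mul, _root_.mul_one]
      rw [e, map_mul, e1, e2]
      rfl
  rw [← hk, hid, sp_id]

end DS

section Fam

variable {M : Type} [AddCommGroup M] {A : Type u} [CommRing A] [HopfAlgebra R A]

/-- The group. -/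
abbrev GA (R : Type u) [CommRing R] (A : Type u) [CommRing A] [HopfAlgebra R A] : Over (Spec (CommRingCat.of R)) :=
  (Spec (CommRingCat.of A)).asOver (Spec (CommRingCat.of R))

/-- Points of the group with values in an algebra. -/
def gPt (B : Type u) [CommRing B] [Algebra R B] : WithConv (A →ₐ[R] B) ≃* (TO R B ⟶ GA R A) :=
  Spec.mapMulEquiv

theorem sp_gPt {B C : Type u} [CommRing B] [Algebra R B] [CommRing C] [Algebra R C] (g : B →ₐ[R] C)
    (f : A →ₐ[R] B) : sp g ≫ gPt B (WithConv.toConv f) = gPt C (WithConv.toConv (g.comp f)) := by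
  refine Over.OverMorphism.ext ?_
  show Spec.map _ ≫ Spec.map _ = Spec.map _
  rw [← Spec.map_comp, ← CommRingCat.ofHom_comp]
  rfl

/-- The algebra map of a family. -/
def toAlg (B : Type u) [CommRing B] [Algebra R B] (φ : Red.DS (Spec (CommRingCat.of R)) M ⊗ TO R B ⟶ GA R A) :
    A →ₐ[R] MonoidAlgebra B (Multiplicative M) :=
  ((gPt _).symm (univPt M B ≫ φ)).ofConv

theorem univPt_comp {B : Type u} [CommRing B] [Algebra R B] (φ : Red.DS (Spec (CommRingCat.of R)) M ⊗ TO R B ⟶ GA R A) :
    univPt M B ≫ φ = gPt _ (WithConv.toConv (toAlg B φ)) := by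
  simp [toAlg]

theorem toAlg_injective {B : Type u} [CommRing B] [Algebra R B]
    {φ φ' : Red.DS (Spec (CommRingCat.of R)) M ⊗ TO R B ⟶ GA R A} (h : toAlg B φ = toAlg B φ') : φ = φ' := by
  rw [← cancel_epi (univPt M B), univPt_comp, univPt_comp, h]

theorem toAlg_surjective {B : Type u} [CommRing B] [Algebra R B] (f : A →ₐ[R] MonoidAlgebra B (Multiplicative M)) :
    ∃ φ : Red.DS (Spec (CommRingCat.of R)) M ⊗ TO R B ⟶ GA R A, toAlg B φ = f :=
  ⟨inv (univPt M B) ≫ gPt _ (WithConv.toConv f), by simp [toAlg]⟩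

theorem lift_comp_fam {B D : Type u} [CommRing B] [Algebra R B] [CommRing D] [Algebra R D]
    (φ : Red.DS (Spec (CommRingCat.of R)) M ⊗ TO R B ⟶ GA R A) (g : B →ₐ[R] D) (χ : Multiplicative M →* D) :
    lift (hPt M D χ) (sp g) ≫ φ = gPt D (WithConv.toConv ((charL M g χ).comp (toAlg B φ))) := by
  rw [← sp_charL_univPt, Category.assoc, univPt_comp, sp_gPt]

theorem convMul_eq {D : Type u} [CommRing D] [Algebra R D] (f₁ f₂ : A →ₐ[R] D) :
    WithConv.toConv f₁ * WithConv.toConv f₂ = WithConv.toConv
      ((Algebra.TensorProduct.lift f₁ f₂ fun _ _ => Commute.all _ _).comp (Bialgebra.comulAlgHom R A)) := by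
  apply WithConv.ofConv_injective
  refine AlgHom.ext fun x => ?_
  rw [AlgHom.convMul_apply]
  simp only [WithConv.ofConv_toConv, AlgHom.comp_apply, Bialgebra.comulAlgHom_apply]

theorem charL_inl {B : Type u} [CommRing B] [Algebra R B] (φ : Multiplicative M →* Multiplicative M × Multiplicative M) :
    charL M (MonoidAlgebra.singleOneAlgHom : B →ₐ[R] MonoidAlgebra B (Multiplicative M × Multiplicative M))
      ((MonoidAlgebra.of B (Multiplicative M × Multiplicative M)).comp φ) =
      MonoidAlgebra.mapDomainAlgHom R B φ := by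
  refine AlgHom.ext fun x => ?_
  induction x using MonoidAlgebra.induction_linear with
  | zero => simp
  | add a b ha hb => simp only [map_add, ha, hb]
  | single m b => simp [charL_single, MonoidAlgebra.single_mul_single]

/-- Pushing a compatible point to a pair of characters. -/
theorem comp_conv_eq {A : Type u} [CommRing A] [Bialgebra R A] {Γ : Type} [CommGroup Γ] {B D : Type u} [CommRing B]
    [Algebra R B] [CommRing D] [Algebra R D] {f : A →ₐ[R] MonoidAlgebra B Γ} (h : IsHomPt f)
    (L : MonoidAlgebra B (Γ × Γ) →ₐ[R] D) :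
    (L.comp (MonoidAlgebra.mapDomainAlgHom R B ((MonoidHom.id Γ).prod (MonoidHom.id Γ)))).comp f =
      (Algebra.TensorProduct.lift ((L.comp (MonoidAlgebra.mapDomainAlgHom R B (MonoidHom.inl Γ Γ))).comp f)
        ((L.comp (MonoidAlgebra.mapDomainAlgHom R B (MonoidHom.inr Γ Γ))).comp f) fun _ _ => Commute.all _ _).comp
        (Bialgebra.comulAlgHom R A) := by
  rw [AlgHom.comp_assoc, ← dup, ← h]
  refine AlgHom.ext fun z => ?_
  simp only [conv2, AlgHom.comp_apply, Bialgebra.comulAlgHom_apply]
  induction Coalgebra.comul (R := R) z with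
  | zero => simp
  | add a b ha hb => simp only [map_add, ha, hb]
  | tmul a b => simp only [Algebra.TensorProduct.lift_tmul, AlgHom.comp_apply, map_mul]

/-- Multiplicativity at a point of a family, in terms of algebras. -/
theorem eval_mul_iff {B D : Type u} [CommRing B] [Algebra R B] [CommRing D] [Algebra R D]
    (φ : Red.DS (Spec (CommRingCat.of R)) M ⊗ TO R B ⟶ GA R A) (g : B →ₐ[R] D) (χ₁ χ₂ : Multiplicative M →* D) :
    (lift (hPt M D χ₁ * hPt M D χ₂) (sp g) ≫ φ =
      (lift (hPt M D χ₁) (sp g) ≫ φ) * (lift (hPt M D χ₂) (sp g) ≫ φ)) ↔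
    (charL M g (χ₁ * χ₂)).comp (toAlg B φ) =
      (Algebra.TensorProduct.lift ((charL M g χ₁).comp (toAlg B φ)) ((charL M g χ₂).comp (toAlg B φ))
        fun _ _ => Commute.all _ _).comp (Bialgebra.comulAlgHom R A) := by
  rw [← map_mul, lift_comp_fam, lift_comp_fam, lift_comp_fam, ← map_mul, convMul_eq]
  exact ⟨fun h => congrArg WithConv.ofConv ((gPt D).injective h), fun h => congrArg (fun z => gPt D (WithConv.toConv z)) h⟩

/-- Families of homomorphisms give compatible algebra maps. -/
theorem isHomPt_toAlg {B : Type u} [CommRing B] [Algebra R B]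
    {φ : Red.DS (Spec (CommRingCat.of R)) M ⊗ TO R B ⟶ GA R A}
    (h : AutFam.IsHomFamily (Red.DS (Spec (CommRingCat.of R)) M) (GA R A) φ) : IsHomPt (A := A) (Γ := Multiplicative M) (toAlg B φ) := by
  have key : ∀ (D : Type u) [CommRing D] [Algebra R D] (g : B →ₐ[R] D) (χ₁ χ₂ : Multiplicative M →* D),
      (charL M g (χ₁ * χ₂)).comp (toAlg B φ) =
      (Algebra.TensorProduct.lift ((charL M g χ₁).comp (toAlg B φ)) ((charL M g χ₂).comp (toAlg B φ))
        fun _ _ => Commute.all _ _).comp (Bialgebra.comulAlgHom R A) :=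
    fun D _ _ g χ₁ χ₂ => (eval_mul_iff φ g χ₁ χ₂).1 (h (TO R D) (hPt M D χ₁) (hPt M D χ₂) (sp g))
  let ΓΓ := Multiplicative M × Multiplicative M
  have h' := key (MonoidAlgebra B ΓΓ) MonoidAlgebra.singleOneAlgHom
    ((MonoidAlgebra.of B ΓΓ).comp (MonoidHom.inl _ _)) ((MonoidAlgebra.of B ΓΓ).comp (MonoidHom.inr _ _))
  rw [show (MonoidAlgebra.of B ΓΓ).comp (MonoidHom.inl _ _) * (MonoidAlgebra.of B ΓΓ).comp (MonoidHom.inr _ _) =
    (MonoidAlgebra.of B ΓΓ).comp ((MonoidHom.id _).prod (MonoidHom.id _)) by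
      refine MonoidHom.ext fun m => ?_
      simp [ΓΓ, MonoidAlgebra.single_mul_single], charL_inl, charL_inl, charL_inl] at h'
  exact h'.symm

/-- The map on the square of the character group. -/
theorem isHomFamily_of_isHomPt {B : Type u} [CommRing B] [Algebra R B]
    {φ : Red.DS (Spec (CommRingCat.of R)) M ⊗ TO R B ⟶ GA R A} (h : IsHomPt (A := A) (Γ := Multiplicative M) (toAlg B φ)) :
    AutFam.IsHomFamily (Red.DS (Spec (CommRingCat.of R)) M) (GA R A) φ := by
  have key : ∀ (D : Type u) [CommRing D] [Algebra R D] (w₁ w₂ : TO R D ⟶ Red.DS (Spec (CommRingCat.of R)) M)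
      (x : TO R D ⟶ TO R B), lift (w₁ * w₂) x ≫ φ = (lift w₁ x ≫ φ) * (lift w₂ x ≫ φ) := by
    intro D _ _ w₁ w₂ x
    obtain ⟨χ₁, rfl⟩ := (hPt (R := R) M D).surjective w₁
    obtain ⟨χ₂, rfl⟩ := (hPt (R := R) M D).surjective w₂
    obtain ⟨k, rfl⟩ := exists_sp x
    rw [eval_mul_iff]
    let L : MonoidAlgebra B (Multiplicative M × Multiplicative M) →ₐ[R] D :=
      MonoidAlgebra.liftNCAlgHom k (χ₁.coprod χ₂) fun _ _ => Commute.all _ _
    have hL : ∀ (ψ : Multiplicative M →* Multiplicative M × Multiplicative M),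
        L.comp (MonoidAlgebra.mapDomainAlgHom R B ψ) = charL M k ((χ₁.coprod χ₂).comp ψ) := fun ψ => by
      refine AlgHom.ext fun x => ?_
      induction x using MonoidAlgebra.induction_linear with
      | zero => simp
      | add a b ha hb => simp only [map_add, ha, hb]
      | single m b => simp [L, charL_single]
    have hd : (χ₁.coprod χ₂).comp ((MonoidHom.id _).prod (MonoidHom.id _)) = χ₁ * χ₂ := by
      refine MonoidHom.ext fun m => ?_
      simp
    have hl := MonoidHom.coprod_comp_inl χ₁ χ₂
    have hr := MonoidHom.coprod_comp_inr χ₁ χ₂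
    have h' := comp_conv_eq (A := A) (Γ := Multiplicative M) h L
    rw [hL, hL, hL, hd, hl, hr] at h'
    exact h'
  intro Y g₁ g₂ t
  refine hom_ext_affine _ _ fun D p w => ?_
  obtain ⟨g, rfl⟩ : ∃ g : CommRingCat.of R ⟶ D, Spec.map g = p := ⟨Spec.preimage p, Spec.map_preimage p⟩
  letI : Algebra R D := g.hom.toAlgebra
  rw [MonObj.comp_mul, comp_lift_assoc, comp_lift_assoc, comp_lift_assoc, MonObj.comp_mul]
  exact key D (w ≫ g₁) (w ≫ g₂) (w ≫ t)

theorem toAlg_comp {B C : Type u} [CommRing B] [Algebra R B] [CommRing C] [Algebra R C] (g : B →ₐ[R] C)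
    (φ : Red.DS (Spec (CommRingCat.of R)) M ⊗ TO R B ⟶ GA R A) :
    toAlg C ((Red.DS (Spec (CommRingCat.of R)) M ◁ sp g) ≫ φ) =
      (MonoidAlgebra.mapAlgHom (Multiplicative M) g).comp (toAlg B φ) := by
  have e : univPt M C ≫ (Red.DS (Spec (CommRingCat.of R)) M ◁ sp g) =
      sp (MonoidAlgebra.mapAlgHom (Multiplicative M) g) ≫ univPt M B := by
    rw [univPt, univPt, lift_whiskerLeft, comp_lift, sp_hPt, sp_comp, sp_comp]
    congr 2
    · refine MonoidHom.ext fun m => ?_
      simp [MonoidAlgebra.mapAlgHom]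
    · ext b
      simp [MonoidAlgebra.mapAlgHom]
  have h : gPt _ (WithConv.toConv (toAlg C ((Red.DS (Spec (CommRingCat.of R)) M ◁ sp g) ≫ φ))) =
      gPt _ (WithConv.toConv ((MonoidAlgebra.mapAlgHom (Multiplicative M) g).comp (toAlg B φ))) := by
    rw [← univPt_comp, ← Category.assoc, e, Category.assoc, univPt_comp, sp_gPt]
  exact congrArg WithConv.ofConv ((gPt _).injective h)

end Fam

end Groth.Agent.HomDM

end
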