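import Groth.Agent.FppfSrc.FlatModel
import Mathlib.RingTheory.Bialgebra.Basic
import Mathlib.RingTheory.Flat.Basic

/-!
A flat finitely presented bialgebra is generated by a finite family spanning a stable submodule.
-/

set_option autoImplicit false
set_option linter.style.haveILetI false

universe u

open TensorProduct

noncomputable section

namespace Groth.Agent.HomDM

/-- Tensor products of flat models. -/
def tensorModel {R' R : Type u} [CommRing R'] [CommRing R] [Algebra R' R] {M N X Y : Type u} [AddCommGroup M]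
    [Module R' M] [AddCommGroup N] [Module R' N] [AddCommGroup X] [Module R X] [AddCommGroup Y] [Module R Y]
    (eX : R ⊗[R'] M ≃ₗ[R] X) (eY : R ⊗[R'] N ≃ₗ[R] Y) : R ⊗[R'] (M ⊗[R'] N) ≃ₗ[R] X ⊗[R] Y :=
  AlgebraTensorModule.distribBaseChange R' R M N ≪≫ₗ TensorProduct.congr eX eY

theorem tensorModel_tmul {R' R : Type u} [CommRing R'] [CommRing R] [Algebra R' R] {M N X Y : Type u}
    [AddCommGroup M] [Module R' M] [AddCommGroup N] [Module R' N] [AddCommGroup X] [Module R X] [AddCommGroup Y]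
    [Module R Y] (eX : R ⊗[R'] M ≃ₗ[R] X) (eY : R ⊗[R'] N ≃ₗ[R] Y) (m : M) (n : N) :
    tensorModel eX eY ((1 : R) ⊗ₜ[R'] (m ⊗ₜ[R'] n)) = eX (1 ⊗ₜ m) ⊗ₜ[R] eY (1 ⊗ₜ n) := by
  simp [tensorModel, AlgebraTensorModule.distribBaseChange]

/-- A flat model embeds. -/
theorem tmul_one_injective {R' R : Type u} [CommRing R'] [CommRing R] [Algebra R' R]
    (hinj : Function.Injective (algebraMap R' R)) (M : Type u) [AddCommGroup M] [Module R' M] [Module.Flat R' M] :
    Function.Injective (fun m : M => (1 : R) ⊗ₜ[R'] m) := by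
  intro a b h
  have h' := Module.Flat.rTensor_preserves_injective_linearMap (M := M) (Algebra.linearMap R' R) hinj
  apply (TensorProduct.lid R' M).symm.injective
  apply h'
  simpa [TensorProduct.lid_symm_apply] using h

/-- The stable submodule over a noetherian model. -/
theorem exists_stable_of_model {R' R A' A : Type u} [CommRing R'] [IsNoetherianRing R'] [CommRing R] [Algebra R' R]
    [CommRing A'] [Algebra R' A'] [Module.Flat R' A'] [CommRing A] [Bialgebra R A]
    (hinj : Function.Injective (algebraMap R' R)) (e : R ⊗[R'] A' ≃ₐ[R] A) (s : Finset A')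
    (hs : Algebra.adjoin R' (s : Set A') = ⊤)
    (hΔ : ∀ x ∈ s, ∃ z : A' ⊗[R'] A', Coalgebra.comul (R := R) (e (1 ⊗ₜ x)) =
      tensorModel e.toLinearEquiv e.toLinearEquiv (1 ⊗ₜ z))
    (hε : ∀ x ∈ s, Coalgebra.counit (R := R) (e (1 ⊗ₜ x)) ∈ Set.range (algebraMap R' R)) :
    ∃ (n : ℕ) (y : Fin n → A) (a : Fin n → Fin n → A), Algebra.adjoin R (Set.range y) = ⊤ ∧
      ∀ i, Coalgebra.comul (R := R) (y i) = ∑ j, y j ⊗ₜ[R] a j i := by
  classical
  letI : Algebra R' A := ((algebraMap R A).comp (algebraMap R' R)).toAlgebra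
  haveI : IsScalarTower R' R A := .of_algebraMap_eq fun _ => rfl
  let ι : A' →ₐ[R'] A := (e.toAlgHom.restrictScalars R').comp Algebra.TensorProduct.includeRight
  have hι : ∀ x, ι x = e (1 ⊗ₜ x) := fun _ => rfl
  have hιinj : Function.Injective ι := e.injective.comp (tmul_one_injective hinj A')
  let θ := tensorModel e.toLinearEquiv e.toLinearEquiv
  -- the embedding of the tensor square, as an algebra map
  let j₂ : A' ⊗[R'] A' →ₐ[R'] A ⊗[R] A :=
    Algebra.TensorProduct.lift ((Algebra.TensorProduct.includeLeft (S := R') : A →ₐ[R'] A ⊗[R] A).comp ι)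
      (((Algebra.TensorProduct.includeRight : A →ₐ[R] A ⊗[R] A).restrictScalars R').comp ι) fun _ _ => Commute.all _ _
  have hj₂ : ∀ z, j₂ z = θ (1 ⊗ₜ z) := fun z => by
    induction z with
    | zero => simp
    | add p q hp hq => rw [map_add, TensorProduct.tmul_add, map_add, hp, hq]
    | tmul p q => simp [j₂, θ, tensorModel_tmul, hι]
  have hj₂inj : Function.Injective j₂ := fun a b h =>
    tmul_one_injective hinj (A' ⊗[R'] A') (θ.injective (by rw [← hj₂, ← hj₂, h]))
  -- comultiplication and counit on the model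
  let Δ₀ : A' →ₐ[R'] A ⊗[R] A := ((Bialgebra.comulAlgHom R A).restrictScalars R').comp ι
  have hΔ₀ : ∀ a, Δ₀ a ∈ j₂.range := fun a => by
    have h : Algebra.adjoin R' (s : Set A') ≤ j₂.range.comap Δ₀ := Algebra.adjoin_le fun x hx => by
      obtain ⟨z, hz⟩ := hΔ x hx
      exact ⟨z, (hj₂ z).trans hz.symm⟩
    exact h (hs.ge Algebra.mem_top)
  let Δ' : A' →ₐ[R'] A' ⊗[R'] A' :=
    (AlgEquiv.ofInjective j₂ hj₂inj).symm.toAlgHom.comp (Δ₀.codRestrict j₂.range hΔ₀)
  have hΔ' : ∀ a, j₂ (Δ' a) = Coalgebra.comul (R := R) (ι a) := fun a =>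
    congrArg Subtype.val ((AlgEquiv.ofInjective j₂ hj₂inj).apply_symm_apply ⟨Δ₀ a, hΔ₀ a⟩)
  let ε₀ : A' →ₐ[R'] R := ((Bialgebra.counitAlgHom R A).restrictScalars R').comp ι
  have hε₀ : ∀ a, ε₀ a ∈ (Algebra.ofId R' R).range := fun a => by
    have h : Algebra.adjoin R' (s : Set A') ≤ (Algebra.ofId R' R).range.comap ε₀ := Algebra.adjoin_le fun x hx => hε x hx
    exact h (hs.ge Algebra.mem_top)
  let ε' : A' →ₐ[R'] R' :=
    (AlgEquiv.ofInjective (Algebra.ofId R' R) hinj).symm.toAlgHom.comp (ε₀.codRestrict _ hε₀)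
  have hε' : ∀ a, algebraMap R' R (ε' a) = Coalgebra.counit (R := R) (ι a) := fun a =>
    congrArg Subtype.val ((AlgEquiv.ofInjective (Algebra.ofId R' R) hinj).apply_symm_apply ⟨ε₀ a, hε₀ a⟩)
  let ΔL := Δ'.toLinearMap
  -- counit
  have hcounit : ∀ a, TensorProduct.rid R' A' (ε'.toLinearMap.lTensor A' (Δ' a)) = a := fun a => by
    apply hιinj
    have h : ∀ z : A' ⊗[R'] A', ι (TensorProduct.rid R' A' (ε'.toLinearMap.lTensor A' z)) =
        TensorProduct.rid R A ((Coalgebra.counit (R := R) (A := A)).lTensor A (j₂ z)) := fun z => by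
      induction z with
      | zero => simp
      | add p q hp hq => simp only [map_add, hp, hq]
      | tmul p q => simp [j₂, ← hε', Algebra.smul_def, map_mul, IsScalarTower.algebraMap_apply R' R A]
    rw [h, hΔ', Coalgebra.lTensor_counit_comul]
    simp
  -- coassociativity
  let j₃L := tensorModel (tensorModel e.toLinearEquiv e.toLinearEquiv) e.toLinearEquiv
  have hcoassoc : ∀ a, ΔL.rTensor A' (Δ' a) = (TensorProduct.assoc R' A' A' A').symm (ΔL.lTensor A' (Δ' a)) := fun a => by
    apply tmul_one_injective hinj ((A' ⊗[R'] A') ⊗[R'] A')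
    apply j₃L.injective
    have hR : ∀ z : A' ⊗[R'] A', j₃L (1 ⊗ₜ ΔL.rTensor A' z) =
        (Coalgebra.comul (R := R) (A := A)).rTensor A (j₂ z) := fun z => by
      induction z with
      | zero => simp
      | add p q hp hq => simp only [map_add, TensorProduct.tmul_add, hp, hq]
      | tmul p q => simp [j₂, j₃L, tensorModel_tmul, ΔL, ← hι, ← hΔ', hj₂, θ]
    have hq : ∀ (p : A') (w : A' ⊗[R'] A'), j₃L (1 ⊗ₜ (TensorProduct.assoc R' A' A' A').symm (p ⊗ₜ w)) =
        (TensorProduct.assoc R A A A).symm (ι p ⊗ₜ j₂ w) := fun p w => by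
      induction w with
      | zero => simp
      | add u v hu hv => simp only [map_add, TensorProduct.tmul_add, hu, hv]
      | tmul u v => simp [j₂, j₃L, tensorModel_tmul, hι]
    have hL : ∀ z : A' ⊗[R'] A', j₃L (1 ⊗ₜ (TensorProduct.assoc R' A' A' A').symm (ΔL.lTensor A' z)) =
        (TensorProduct.assoc R A A A).symm ((Coalgebra.comul (R := R) (A := A)).lTensor A (j₂ z)) := fun z => by
      induction z with
      | zero => simp
      | add p q hp hq' => simp only [map_add, TensorProduct.tmul_add, hp, hq']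
      | tmul p q => rw [LinearMap.lTensor_tmul, hq]; simp [j₂, ΔL, ← hΔ']
    show j₃L (1 ⊗ₜ _) = j₃L (1 ⊗ₜ _)
    rw [hR, hL, hΔ', Coalgebra.coassoc_symm_apply]
  -- the stable submodule
  have hspan : ∀ x : A', ∃ t : Finset A', Δ' x ∈
      LinearMap.range ((Submodule.span R' (t : Set A')).subtype.rTensor A') := fun x => by
    induction Δ' x with
    | zero => exact ⟨∅, zero_mem _⟩
    | tmul p q => exact ⟨{p}, ⟨⟨p, Submodule.subset_span (by simp)⟩ ⊗ₜ q, rfl⟩⟩
    | add p q hp hq =>
      obtain ⟨t, ht⟩ := hp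
      obtain ⟨t', ht'⟩ := hq
      refine ⟨t ∪ t', add_mem ?_ ?_⟩
      · obtain ⟨w, hw⟩ := ht
        refine ⟨(Submodule.inclusion (Submodule.span_mono (by simp))).rTensor A' w, ?_⟩
        rw [← LinearMap.rTensor_comp_apply, ← hw]
        rfl
      · obtain ⟨w, hw⟩ := ht'
        refine ⟨(Submodule.inclusion (Submodule.span_mono (by simp))).rTensor A' w, ?_⟩
        rw [← LinearMap.rTensor_comp_apply, ← hw]
        rfl
  choose t ht using hspan
  let N' : Submodule R' A' := Submodule.span R' ((s.biUnion t : Finset A') : Set A')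
  let π := N'.mkQ
  let g : A' →ₗ[R'] (A' ⧸ N') ⊗[R'] A' := π.rTensor A' ∘ₗ ΔL
  let N := LinearMap.ker g
  have hsN : ∀ x ∈ s, x ∈ N := fun x hx => by
    obtain ⟨w, hw⟩ := ht x
    show π.rTensor A' (Δ' x) = 0
    have hle : Submodule.span R' (t x : Set A') ≤ N' :=
      Submodule.span_mono (Finset.coe_subset.2 (Finset.subset_biUnion_of_mem t hx))
    rw [← hw, ← LinearMap.rTensor_comp_apply,
      show π ∘ₗ (Submodule.span R' (t x : Set A')).subtype = 0 from
        LinearMap.ext fun z => (Submodule.Quotient.mk_eq_zero N').2 (hle z.2)]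
    simp
  have hNN' : N ≤ N' := fun x hx => by
    rw [← Submodule.Quotient.mk_eq_zero]
    have h : ∀ z : A' ⊗[R'] A', π (TensorProduct.rid R' A' (ε'.toLinearMap.lTensor A' z)) =
        TensorProduct.rid R' _ (ε'.toLinearMap.lTensor _ (π.rTensor A' z)) := fun z => by
      induction z with
      | zero => simp
      | add p q hp hq => simp only [map_add, hp, hq]
      | tmul p q => simp
    have h1 := h (Δ' x)
    rw [hcounit] at h1
    show π x = 0
    rw [h1, show π.rTensor A' (Δ' x) = 0 from hx, map_zero, map_zero]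
  have hNfg : N.FG := by
    haveI : Module.Finite R' N' := Module.Finite.span_of_finite R' (Finset.finite_toSet _)
    have : (N.comap N'.subtype).FG := IsNoetherian.noetherian _
    have h := this.map N'.subtype
    rwa [Submodule.map_comap_subtype, inf_eq_right.2 hNN'] at h
  obtain ⟨n, y₀, hy₀⟩ := Submodule.fg_iff_exists_fin_generating_family.1 hNfg
  have hcol : ∀ x ∈ N, ∃ a : Fin n → A', Δ' x = ∑ j, y₀ j ⊗ₜ a j := fun x hx => by
    have hz : g.rTensor A' (Δ' x) = 0 := by
      have h2 : ∀ z : A' ⊗[R'] A', (π.rTensor A').rTensor A' ((TensorProduct.assoc R' A' A' A').symm (ΔL.lTensor A' z)) =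
          (TensorProduct.assoc R' _ A' A').symm (ΔL.lTensor _ (π.rTensor A' z)) := fun z => by
        induction z with
        | zero => simp
        | add p q hp hq => simp only [map_add, hp, hq]
        | tmul p q =>
          simp only [LinearMap.lTensor_tmul, LinearMap.rTensor_tmul]
          induction ΔL q with
          | zero => simp
          | add u v hu hv => simp only [map_add, TensorProduct.tmul_add, hu, hv]
          | tmul u v => simp
      rw [show g.rTensor A' = (π.rTensor A').rTensor A' ∘ₗ ΔL.rTensor A' from LinearMap.rTensor_comp _ _ _,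
        LinearMap.comp_apply, hcoassoc, h2, show π.rTensor A' (Δ' x) = 0 from hx, map_zero, map_zero]
    obtain ⟨w, hw⟩ := (Module.Flat.rTensor_exact A' (LinearMap.exact_subtype_ker_map g) _).1 hz
    rw [← hw]
    clear hw
    induction w with
    | zero => exact ⟨0, by simp⟩
    | add p q hp hq =>
      obtain ⟨a, ha⟩ := hp
      obtain ⟨b, hb⟩ := hq
      exact ⟨a + b, by simp [ha, hb, TensorProduct.tmul_add, Finset.sum_add_distrib]⟩
    | tmul p q =>
      obtain ⟨r, hr⟩ := (Submodule.mem_span_range_iff_exists_fun R').1 (hy₀.ge p.2)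
      exact ⟨fun j => r j • q, by
        rw [LinearMap.rTensor_tmul, Submodule.subtype_apply, ← hr, TensorProduct.sum_tmul]
        simp [TensorProduct.smul_tmul]⟩
  choose a₀ ha₀ using fun i => hcol (y₀ i) (hy₀.le (Submodule.subset_span ⟨i, rfl⟩))
  refine ⟨n, fun i => ι (y₀ i), fun j i => ι (a₀ i j), ?_, fun i => ?_⟩
  · refine eq_top_iff.2 fun x _ => ?_
    obtain ⟨w, rfl⟩ := e.surjective x
    have hA' : ∀ z : A', ι z ∈ Algebra.adjoin R (Set.range fun i => ι (y₀ i)) := fun z => by
      have h : Algebra.adjoin R' (s : Set A') ≤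
          ((Algebra.adjoin R (Set.range fun i => ι (y₀ i))).restrictScalars R').comap ι :=
        Algebra.adjoin_le fun p hp => by
          obtain ⟨r, hr⟩ := (Submodule.mem_span_range_iff_exists_fun R').1 (hy₀.ge (hsN p hp))
          show ι p ∈ Algebra.adjoin R (Set.range fun i => ι (y₀ i))
          rw [← hr, map_sum]
          refine Subalgebra.sum_mem _ fun i _ => ?_
          rw [map_smul, algebra_compatible_smul R (r i)]
          exact Subalgebra.smul_mem _ (Algebra.subset_adjoin (Set.mem_range_self (f := fun i => ι (y₀ i)) i)) _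
      exact h (hs.ge Algebra.mem_top)
    clear * - hA'
    induction w with
    | zero => simp
    | add p q hp hq => rw [map_add]; exact add_mem hp hq
    | tmul r z =>
      rw [show r ⊗ₜ[R'] z = r • ((1 : R) ⊗ₜ[R'] z) by simp [TensorProduct.smul_tmul'], map_smul]
      exact Subalgebra.smul_mem _ (hA' z) r
  · rw [← hΔ', ha₀, map_sum]
    simp [j₂]

/-- The stable submodule from a model over a noetherian ring containing the structure constants. -/
theorem exists_stable_of_coeff {R₁ S R C₀ A : Type u} [CommRing R₁] [CommRing S] [IsNoetherianRing S] [CommRing R]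
    [Algebra R₁ S] [Algebra S R] [Algebra R₁ R] [IsScalarTower R₁ S R] [CommRing C₀] [Algebra R₁ C₀]
    [Module.Flat R₁ C₀] [CommRing A] [Bialgebra R A] (hinj : Function.Injective (algebraMap S R))
    (e₀ : R ⊗[R₁] C₀ ≃ₐ[R] A) (g : Finset C₀) (hg : Algebra.adjoin R₁ (g : Set C₀) = ⊤)
    (hΔ : ∀ c ∈ g, ∃ l : List (S × C₀ × C₀), Coalgebra.comul (R := R) (e₀ (1 ⊗ₜ c)) =
      (l.map fun p => e₀ (algebraMap S R p.1 ⊗ₜ p.2.1) ⊗ₜ[R] e₀ (1 ⊗ₜ p.2.2)).sum)
    (hε : ∀ c ∈ g, Coalgebra.counit (R := R) (e₀ (1 ⊗ₜ c)) ∈ Set.range (algebraMap S R)) :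
    ∃ (n : ℕ) (y : Fin n → A) (a : Fin n → Fin n → A), Algebra.adjoin R (Set.range y) = ⊤ ∧
      ∀ i, Coalgebra.comul (R := R) (y i) = ∑ j, y j ⊗ₜ[R] a j i := by
  classical
  let e : R ⊗[S] (S ⊗[R₁] C₀) ≃ₐ[R] A := (Algebra.TensorProduct.cancelBaseChange R₁ S R R C₀).trans e₀
  have he : ∀ (s : S) (c : C₀), e (1 ⊗ₜ[S] (s ⊗ₜ[R₁] c)) = e₀ (algebraMap S R s ⊗ₜ c) := fun s c => by
    simp [e, Algebra.smul_def]
  refine exists_stable_of_model (A' := S ⊗[R₁] C₀) hinj e (g.image fun c => (1 : S) ⊗ₜ[R₁] c) ?_ ?_ ?_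
  · refine eq_top_iff.2 fun x _ => ?_
    clear * - hg x
    induction x using TensorProduct.induction_on with
    | zero => exact zero_mem _
    | add p q hp hq => exact add_mem hp hq
    | tmul r c =>
      have h : Algebra.adjoin R₁ (g : Set C₀) ≤
          ((Algebra.adjoin S ((g.image fun c => (1 : S) ⊗ₜ[R₁] c : Finset _) : Set (S ⊗[R₁] C₀))).restrictScalars R₁).comap
            Algebra.TensorProduct.includeRight :=
        Algebra.adjoin_le fun c hc => Algebra.subset_adjoin (by simpa using ⟨c, hc, rfl⟩)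
      have h1 : (1 : S) ⊗ₜ[R₁] c ∈ Algebra.adjoin S ((g.image fun c => (1 : S) ⊗ₜ[R₁] c : Finset _) : Set (S ⊗[R₁] C₀)) :=
        h (hg.ge Algebra.mem_top)
      rw [show r ⊗ₜ[R₁] c = r • ((1 : S) ⊗ₜ[R₁] c) by simp [TensorProduct.smul_tmul']]
      exact Subalgebra.smul_mem _ h1 r
  · intro x hx
    obtain ⟨c, hc, rfl⟩ := Finset.mem_image.1 hx
    obtain ⟨l, hl⟩ := hΔ c hc
    refine ⟨(l.map fun p => (p.1 ⊗ₜ[R₁] p.2.1) ⊗ₜ[S] ((1 : S) ⊗ₜ[R₁] p.2.2)).sum, ?_⟩
    rw [he, map_one, hl]
    clear hl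
    induction l with
    | nil => simp
    | cons p l ih =>
      simp only [List.map_cons, List.sum_cons, map_add, TensorProduct.tmul_add, ih]
      congr 1
      rw [tensorModel_tmul]
      exact (congrArg₂ (· ⊗ₜ[R] ·) (he _ _) ((he _ _).trans (by rw [map_one]))).symm
  · intro x hx
    obtain ⟨c, hc, rfl⟩ := Finset.mem_image.1 hx
    rw [he, map_one]
    exact hε c hc

/-- A flat finitely presented bialgebra is generated by a finite family spanning a stable submodule. -/
theorem exists_stable (R A : Type u) [CommRing R] [CommRing A] [Bialgebra R A] [Algebra.FinitePresentation R A]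
    [Module.Flat R A] :
    ∃ (n : ℕ) (y : Fin n → A) (a : Fin n → Fin n → A), Algebra.adjoin R (Set.range y) = ⊤ ∧
      ∀ i, Coalgebra.comul (R := R) (y i) = ∑ j, y j ⊗ₜ[R] a j i := by
  classical
  obtain ⟨R₁, C₀, _, _, hR₁, _, _, ⟨e⟩⟩ := FppfSrc.exists_flat_model R A
  obtain ⟨g, hg⟩ := (inferInstance : Algebra.FiniteType R₁ C₀).out
  let e₀ := e.symm
  have hA : ∀ w : A, ∃ t : Finset R, ∀ S : Subalgebra ℤ R, (t : Set R) ⊆ S →
      ∃ l : List (S × C₀), w = (l.map fun p => e₀ ((p.1 : R) ⊗ₜ p.2)).sum := fun w => by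
    obtain ⟨w, rfl⟩ := e₀.surjective w
    induction w with
    | zero => exact ⟨∅, fun S _ => ⟨[], by simp⟩⟩
    | tmul r c => exact ⟨{r}, fun S h => ⟨[(⟨r, h (by simp)⟩, c)], by simp⟩⟩
    | add p q hp hq =>
      obtain ⟨t, ht⟩ := hp
      obtain ⟨t', ht'⟩ := hq
      refine ⟨t ∪ t', fun S h => ?_⟩
      simp only [Finset.coe_union, Set.union_subset_iff] at h
      obtain ⟨l, hl⟩ := ht S h.1
      obtain ⟨l', hl'⟩ := ht' S h.2
      exact ⟨l ++ l', by simp [hl, hl']⟩
  have hAA : ∀ z : A ⊗[R] A, ∃ t : Finset R, ∀ S : Subalgebra ℤ R, (t : Set R) ⊆ S →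
      ∃ l : List (S × C₀ × C₀), z = (l.map fun p => e₀ ((p.1 : R) ⊗ₜ p.2.1) ⊗ₜ[R] e₀ (1 ⊗ₜ p.2.2)).sum := fun z => by
    induction z with
    | zero => exact ⟨∅, fun S _ => ⟨[], by simp⟩⟩
    | add p q hp hq =>
      obtain ⟨t, ht⟩ := hp
      obtain ⟨t', ht'⟩ := hq
      refine ⟨t ∪ t', fun S h => ?_⟩
      simp only [Finset.coe_union, Set.union_subset_iff] at h
      obtain ⟨l, hl⟩ := ht S h.1
      obtain ⟨l', hl'⟩ := ht' S h.2
      exact ⟨l ++ l', by simp [hl, hl']⟩
    | tmul p q =>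
      obtain ⟨t, ht⟩ := hA p
      obtain ⟨t', ht'⟩ := hA q
      refine ⟨t ∪ t', fun S h => ?_⟩
      simp only [Finset.coe_union, Set.union_subset_iff] at h
      obtain ⟨l, hl⟩ := ht S h.1
      obtain ⟨l', hl'⟩ := ht' S h.2
      refine ⟨l.flatMap fun x => l'.map fun y => (x.1 * y.1, x.2, y.2), ?_⟩
      rw [hl, hl']
      clear hl hl'
      induction l with
      | nil => simp
      | cons x l ih =>
        simp only [List.map_cons, List.sum_cons, TensorProduct.add_tmul, ih, List.flatMap_cons, List.map_append,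
          List.sum_append, List.map_map]
        congr 1
        clear ih
        induction l' with
        | nil => simp
        | cons y l' ih =>
          simp only [List.map_cons, List.sum_cons, TensorProduct.tmul_add, ih]
          congr 1
          have h1 : e₀ ((y.1 : R) ⊗ₜ[R₁] y.2) = (y.1 : R) • e₀ (1 ⊗ₜ y.2) := by
            rw [← map_smul]; simp [TensorProduct.smul_tmul']
          have h2 : e₀ (((x.1 * y.1 : S) : R) ⊗ₜ[R₁] x.2) = (y.1 : R) • e₀ ((x.1 : R) ⊗ₜ x.2) := by
            rw [← map_smul]; simp [TensorProduct.smul_tmul', mul_comm]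
          show _ = e₀ (((x.1 * y.1 : S) : R) ⊗ₜ[R₁] x.2) ⊗ₜ[R] e₀ (1 ⊗ₜ y.2)
          rw [h1, h2, TensorProduct.smul_tmul]
  choose t ht using fun c : C₀ => hAA (Coalgebra.comul (R := R) (e₀ (1 ⊗ₜ c)))
  let extra : Finset R := g.biUnion t ∪ g.image fun c => Coalgebra.counit (R := R) (e₀ (1 ⊗ₜ c))
  let S : Subalgebra ℤ R := R₁ ⊔ Algebra.adjoin ℤ (extra : Set R)
  have hext : (extra : Set R) ⊆ S := fun x hx => SetLike.le_def.1 le_sup_right (Algebra.subset_adjoin hx)
  haveI : IsNoetherianRing S := isNoetherianRing_of_fg (hR₁.sup ⟨extra, rfl⟩)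
  letI : Algebra R₁ S := (Subalgebra.inclusion (le_sup_left : R₁ ≤ S)).toRingHom.toAlgebra
  haveI : IsScalarTower R₁ S R := .of_algebraMap_eq fun _ => rfl
  refine exists_stable_of_coeff (R₁ := R₁) (S := S) Subtype.val_injective e₀ g hg (fun c hc => ?_) fun c hc => ?_
  · exact ht c S ((Finset.coe_subset.2 ((Finset.subset_biUnion_of_mem t hc).trans
      Finset.subset_union_left)).trans hext)
  · exact ⟨⟨_, hext (Finset.mem_coe.2 (Finset.mem_union_right _ (Finset.mem_image_of_mem _ hc)))⟩, rfl⟩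

end Groth.Agent.HomDM

end
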