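import Groth.Agent.HomDM.Stable
import Groth.Agent.HomDM.Points
import Groth.Agent.FpqcDesc.Misc
import Groth.Agent.HomRep.DS
import Groth.Agent.HomRep.Glue
import Groth.Agent.SchDesc.IndQA
import Mathlib.AlgebraicGeometry.Gluing
import Mathlib.RingTheory.RingHom.Smooth

/-!
The scheme of homomorphisms from a diagonalisable group into a smooth affine group, as a directed union of affine
schemes.
-/

set_option autoImplicit false
set_option backward.isDefEq.respectTransparency false
set_option backward.isDefEq.respectTransparency.types false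
set_option linter.style.haveILetI false
set_option linter.unusedSectionVars false

universe u

open CategoryTheory CategoryTheory.Limits MonoidalCategory CartesianMonoidalCategory MonObj AlgebraicGeometry

noncomputable section

namespace Groth.Agent.HomDM

variable (R : Type u) [CommRing R] (M : Type) [AddCommGroup M] (A : Type u) [CommRing A] [HopfAlgebra R A]

/-- A finite generating family spanning a stable submodule. -/
structure Pres where
  /-- the number of generators -/
  N : ℕ
  /-- the generators -/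
  y : Fin N → A
  /-- the coefficients -/
  a : Fin N → Fin N → A
  hgen : Algebra.adjoin R (Set.range y) = ⊤
  hΔ : ∀ i, Coalgebra.comul (R := R) (y i) = ∑ j, TensorProduct.tmul R (y j) (a j i)

theorem nonempty_pres [Algebra.Smooth R A] : Nonempty (Pres R A) := by
  haveI : Module.Flat R A := inferInstance
  obtain ⟨n, y, a, h₁, h₂⟩ := exists_stable R A
  exact ⟨⟨n, y, a, h₁, h₂⟩⟩

variable {R A}

/-- The homomorphism condition. -/
abbrev HP {T : Type u} [CommRing T] [Algebra R T] (f : A →ₐ[R] MonoidAlgebra T (Multiplicative M)) : Prop :=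
  IsHomPt (A := A) (Γ := Multiplicative M) f

/-- The weight condition. -/
abbrev GF (d : Pres R A) {T : Type u} [CommRing T] [Algebra R T] (F : Finset (Multiplicative M))
    (f : A →ₐ[R] MonoidAlgebra T (Multiplicative M)) : Prop :=
  Good (A := A) (Γ := Multiplicative M) d.a F f

/-- A universal point with weights in `F`. -/
structure Univ (d : Pres R A) (F : Finset (Multiplicative M)) where
  /-- the ring -/
  Q : Type u
  [comm : CommRing Q]
  [alg : Algebra R Q]
  /-- the point -/
  u : A →ₐ[R] MonoidAlgebra Q (Multiplicative M)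
  fp : Algebra.FinitePresentation R Q
  hu : HP M u
  hF : GF M d F u
  univ : ∀ (T : Type u) [CommRing T] [Algebra R T] (f : A →ₐ[R] MonoidAlgebra T (Multiplicative M)),
    HP M f → GF M d F f → ∃! g : Q →ₐ[R] T, (MonoidAlgebra.mapAlgHom (Multiplicative M) g).comp u = f

attribute [instance] Univ.comm Univ.alg

variable [Algebra.Smooth R A] (d : Pres R A)

theorem nonempty_univ (F : Finset (Multiplicative M)) : Nonempty (Univ M d F) := by
  obtain ⟨Q, _, _, u, h₁, h₂, h₃, h₄⟩ := exists_univ (Γ := Multiplicative M) d.hgen d.hΔ F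
  exact ⟨{ Q := Q, u := u, fp := h₁, hu := h₂, hF := h₃, univ := h₄ }⟩

/-- The chosen universal point. -/
def U (F : Finset (Multiplicative M)) : Univ M d F := (nonempty_univ M d F).some

theorem mapAlgHom_comp_comp {T T' T'' : Type u} [CommRing T] [Algebra R T] [CommRing T'] [Algebra R T'] [CommRing T'']
    [Algebra R T''] (g : T →ₐ[R] T') (h : T' →ₐ[R] T'') (f : A →ₐ[R] MonoidAlgebra T (Multiplicative M)) :
    (MonoidAlgebra.mapAlgHom (Multiplicative M) h).comp ((MonoidAlgebra.mapAlgHom (Multiplicative M) g).comp f) =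
      (MonoidAlgebra.mapAlgHom (Multiplicative M) (h.comp g)).comp f := by
  refine AlgHom.ext fun x => ?_
  ext n
  simp

theorem mapAlgHom_id_comp {T : Type u} [CommRing T] [Algebra R T] (f : A →ₐ[R] MonoidAlgebra T (Multiplicative M)) :
    (MonoidAlgebra.mapAlgHom (Multiplicative M) (AlgHom.id R T)).comp f = f := by
  refine AlgHom.ext fun x => ?_
  ext n
  simp

theorem hom_ext_univ {F : Finset (Multiplicative M)} {T : Type u} [CommRing T] [Algebra R T]
    (g g' : (U M d F).Q →ₐ[R] T)
    (h : (MonoidAlgebra.mapAlgHom (Multiplicative M) g).comp (U M d F).u =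
      (MonoidAlgebra.mapAlgHom (Multiplicative M) g').comp (U M d F).u) : g = g' :=
  ((U M d F).univ T _ ((U M d F).hu.map g) ((U M d F).hF.map g)).unique rfl h.symm

/-- The restriction. -/
def res {F F' : Finset (Multiplicative M)} (h : F ≤ F') : (U M d F').Q →ₐ[R] (U M d F).Q :=
  ((U M d F').univ _ (U M d F).u (U M d F).hu ((U M d F).hF.mono h)).exists.choose

theorem res_spec {F F' : Finset (Multiplicative M)} (h : F ≤ F') :
    (MonoidAlgebra.mapAlgHom (Multiplicative M) (res M d h)).comp (U M d F').u = (U M d F).u :=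
  ((U M d F').univ _ (U M d F).u (U M d F).hu ((U M d F).hF.mono h)).exists.choose_spec

theorem res_refl (F : Finset (Multiplicative M)) : res M d (le_refl F) = AlgHom.id R _ :=
  hom_ext_univ M d _ _ (by rw [res_spec, mapAlgHom_id_comp])

theorem res_trans {F F' F'' : Finset (Multiplicative M)} (h : F ≤ F') (h' : F' ≤ F'') :
    res M d (h.trans h') = (res M d h).comp (res M d h') :=
  hom_ext_univ M d _ _ (by rw [res_spec, ← mapAlgHom_comp_comp, res_spec, res_spec])

open Classical in
/-- The element cutting out a smaller set of weights. -/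
def cut (F F' : Finset (Multiplicative M)) : (U M d F').Q :=
  ∏ n ∈ F' \ F, (1 - mat (A := A) (Γ := Multiplicative M) d.a (U M d F').u n).det

theorem good_of_isUnit_cut {F F' : Finset (Multiplicative M)} {T : Type u} [CommRing T] [Algebra R T]
    (g : (U M d F').Q →ₐ[R] T) (hg : IsUnit (g (cut M d F F'))) :
    GF M d F ((MonoidAlgebra.mapAlgHom (Multiplicative M) g).comp (U M d F').u) := fun n hn => by
  classical
  by_cases hn' : n ∈ F'
  · rw [det_map]
    rw [cut, map_prod] at hg
    exact (IsUnit.prod_iff.1 hg) n (Finset.mem_sdiff.2 ⟨hn', hn⟩)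
  · exact ((U M d F').hF.map g) n hn'

theorem isUnit_res_cut {F F' : Finset (Multiplicative M)} (h : F ≤ F') : IsUnit (res M d h (cut M d F F')) := by
  classical
  rw [cut, map_prod]
  refine IsUnit.prod_iff.2 fun n hn => ?_
  rw [← det_map, res_spec]
  exact (U M d F).hF n (Finset.mem_sdiff.1 hn).2

/-- The restriction is a localisation. -/
theorem exists_equiv_away {F F' : Finset (Multiplicative M)} (h : F ≤ F') :
    ∃ e : Localization.Away (cut M d F F') ≃ₐ[R] (U M d F).Q,
      (e : Localization.Away (cut M d F F') →ₐ[R] (U M d F).Q).comp (IsScalarTower.toAlgHom R (U M d F').Q _) =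
        res M d h := by
  let L := Localization.Away (cut M d F F')
  let ℓ : (U M d F').Q →ₐ[R] L := IsScalarTower.toAlgHom R (U M d F').Q L
  have hℓ : IsUnit (ℓ (cut M d F F')) :=
    IsLocalization.map_units L (⟨cut M d F F', Submonoid.mem_powers _⟩ : Submonoid.powers (cut M d F F'))
  obtain ⟨ψ, hψ, -⟩ := (U M d F).univ L _ ((U M d F').hu.map ℓ) (good_of_isUnit_cut M d ℓ hℓ)
  let φ : L →ₐ[R] (U M d F).Q := IsLocalization.liftAlgHom (M := Submonoid.powers (cut M d F F')) (f := res M d h)
    (by rintro ⟨_, k, rfl⟩; simpa using (isUnit_res_cut M d h).pow k)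
  have hφ : φ.comp ℓ = res M d h := AlgHom.ext fun q => IsLocalization.lift_eq _ q
  have h₁ : φ.comp ψ = AlgHom.id R _ := hom_ext_univ M d _ _ (by
    rw [mapAlgHom_id_comp, ← mapAlgHom_comp_comp, hψ, mapAlgHom_comp_comp, hφ, res_spec])
  have h₂ : ψ.comp (res M d h) = ℓ := hom_ext_univ M d _ _ (by
    rw [← mapAlgHom_comp_comp, res_spec, hψ])
  have h₃ : ψ.comp φ = AlgHom.id R L := IsLocalization.algHom_ext (Submonoid.powers (cut M d F F')) (by
    refine AlgHom.ext fun q => ?_
    show ψ (φ (ℓ q)) = ℓ q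
    rw [← AlgHom.comp_apply φ, hφ, ← AlgHom.comp_apply, h₂])
  exact ⟨AlgEquiv.ofAlgHom φ ψ h₁ h₃, hφ⟩

theorem isOpenImmersion_res {F F' : Finset (Multiplicative M)} (h : F ≤ F') :
    IsOpenImmersion (Spec.map (CommRingCat.ofHom (res M d h).toRingHom)) ∧
      Set.range (Spec.map (CommRingCat.ofHom (res M d h).toRingHom)) =
        (PrimeSpectrum.basicOpen (cut M d F F') : Set (PrimeSpectrum (U M d F').Q)) := by
  obtain ⟨e, he⟩ := exists_equiv_away M d h
  let L := Localization.Away (cut M d F F')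
  have e' : Spec.map (CommRingCat.ofHom (res M d h).toRingHom) =
      Spec.map (CommRingCat.ofHom e.toRingEquiv.toRingHom) ≫
        Spec.map (CommRingCat.ofHom (algebraMap (U M d F').Q L)) := by
    rw [← Spec.map_comp, ← CommRingCat.ofHom_comp]
    refine congrArg (fun r => Spec.map (CommRingCat.ofHom r)) ?_
    rw [← he]
    rfl
  haveI : IsIso (CommRingCat.ofHom e.toRingEquiv.toRingHom) := (RingEquiv.toCommRingCatIso e.toRingEquiv).isIso_hom
  haveI : IsOpenImmersion (Spec.map (CommRingCat.ofHom (algebraMap (U M d F').Q L))) :=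
    IsOpenImmersion.of_isLocalization (cut M d F F')
  refine ⟨by rw [e']; infer_instance, ?_⟩
  rw [e', Scheme.Hom.comp_base, TopCat.coe_comp, Set.range_comp,
    Set.range_eq_univ.2 (Spec.map (CommRingCat.ofHom e.toRingEquiv.toRingHom)).surjective, Set.image_univ]
  exact PrimeSpectrum.localization_away_comap_range L (cut M d F F')

/-- The diagram of bounded weights. -/
def diagram : Finset (Multiplicative M) ⥤ Scheme.{u} where
  obj F := Spec (CommRingCat.of (U M d F).Q)
  map h := Spec.map (CommRingCat.ofHom (res M d h.le).toRingHom)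
  map_id F := by
    rw [show res M d (𝟙 F : F ⟶ F).le = AlgHom.id R _ from res_refl M d F]
    exact Spec.map_id _
  map_comp {F F' F''} h h' := by
    rw [show res M d (h ≫ h').le = (res M d h.le).comp (res M d h'.le) from res_trans M d h.le h'.le]
    rw [← Spec.map_comp, ← CommRingCat.ofHom_comp]
    rfl

instance {F F' : Finset (Multiplicative M)} (h : F ⟶ F') : IsOpenImmersion ((diagram M d).map h) :=
  (isOpenImmersion_res M d h.le).1

theorem range_diagram_map {F F' : Finset (Multiplicative M)} (h : F ⟶ F') :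
    Set.range ((diagram M d).map h) = (PrimeSpectrum.basicOpen (cut M d F F') : Set (PrimeSpectrum (U M d F').Q)) :=
  (isOpenImmersion_res M d h.le).2

open Classical in
theorem inter_range {F F' G : Finset (Multiplicative M)} (h : F ⟶ G) (h' : F' ⟶ G) (z : PrimeSpectrum (U M d G).Q)
    (hz : z ∈ Set.range ((diagram M d).map h)) (hz' : z ∈ Set.range ((diagram M d).map h')) :
    z ∈ Set.range ((diagram M d).map (homOfLE (Finset.inter_subset_left.trans h.le) : F ∩ F' ⟶ G)) := by
  rw [range_diagram_map] at hz hz' ⊢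
  simp only [SetLike.mem_coe, PrimeSpectrum.mem_basicOpen, cut] at hz hz' ⊢
  intro hp
  obtain ⟨n, hn, hn'⟩ := z.isPrime.prod_mem_iff.1 hp
  rw [Finset.mem_sdiff, Finset.mem_inter, not_and_or] at hn
  rcases hn.2 with h1 | h1
  · exact hz (Ideal.prod_mem _ (Finset.mem_sdiff.2 ⟨hn.1, h1⟩) hn')
  · exact hz' (Ideal.prod_mem _ (Finset.mem_sdiff.2 ⟨hn.1, h1⟩) hn')

instance : ((diagram M d) ⋙ Scheme.forget).IsLocallyDirected where
  cond {F F' G} h h' x x' e := by
    classical
    obtain ⟨w, hw⟩ := inter_range M d h h' ((diagram M d).map h x) ⟨x, rfl⟩ ⟨x', e.symm⟩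
    let i₁ : F ∩ F' ⟶ F := homOfLE Finset.inter_subset_left
    let i₂ : F ∩ F' ⟶ F' := homOfLE Finset.inter_subset_right
    refine ⟨F ∩ F', i₁, i₂, w, ?_, ?_⟩
    · show (diagram M d).map i₁ w = x
      refine ((diagram M d).map h).isOpenEmbedding.injective ?_
      rw [← Scheme.Hom.comp_apply, ← Functor.map_comp, Subsingleton.elim (i₁ ≫ h) (homOfLE (Finset.inter_subset_left.trans h.le)), hw]
    · show (diagram M d).map i₂ w = x'
      refine ((diagram M d).map h').isOpenEmbedding.injective ?_
      rw [← Scheme.Hom.comp_apply, ← Functor.map_comp, Subsingleton.elim (i₂ ≫ h') (homOfLE (Finset.inter_subset_left.trans h.le)), hw]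
      exact e

/-- The scheme of homomorphisms. -/
def rep : Scheme.{u} := colimit (diagram M d)

/-- The scheme of homomorphisms over the base. -/
def repOver : Over (Spec (CommRingCat.of R)) :=
  Over.mk (colimit.desc (diagram M d) (Cocone.mk (Spec (CommRingCat.of R))
    { app := fun F => qAlg R (U M d F).Q
      naturality := fun F F' h => by
        show Spec.map _ ≫ Spec.map _ = Spec.map _ ≫ 𝟙 _
        rw [Category.comp_id, ← Spec.map_comp, ← CommRingCat.ofHom_comp]
        exact congrArg (fun r => Spec.map (CommRingCat.ofHom r)) (res M d h.le).comp_algebraMap }) :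
    rep M d ⟶ Spec (CommRingCat.of R))

/-- A piece of the scheme of homomorphisms. -/
def piece (F : Finset (Multiplicative M)) : TO R (U M d F).Q ⟶ repOver M d :=
  Over.homMk (colimit.ι (diagram M d) F) (colimit.ι_desc _ _)

instance (F : Finset (Multiplicative M)) : IsOpenImmersion (piece M d F).left :=
  inferInstanceAs (IsOpenImmersion (colimit.ι (diagram M d) F))

theorem sp_res_piece {F F' : Finset (Multiplicative M)} (h : F ≤ F') :
    sp (res M d h) ≫ piece M d F' = piece M d F :=
  Over.OverMorphism.ext (colimit.w (diagram M d) (homOfLE h))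

theorem piece_surjective (z : (repOver M d).left) : ∃ F, z ∈ Set.range (piece M d F).left := by
  obtain ⟨F, x, hx⟩ := Scheme.IsLocallyDirected.ι_jointly_surjective (diagram M d) z
  exact ⟨F, x, hx⟩

theorem range_piece_mono {F F' : Finset (Multiplicative M)} (h : F ≤ F') :
    Set.range (piece M d F).left ⊆ Set.range (piece M d F').left := by
  rintro _ ⟨x, rfl⟩
  exact ⟨(sp (res M d h)).left x, by rw [← Scheme.Hom.comp_apply, ← Over.comp_left, sp_res_piece]⟩

theorem range_piece_inter {F F' : Finset (Multiplicative M)} (z : (repOver M d).left)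
    (h : z ∈ Set.range (piece M d F).left) (h' : z ∈ Set.range (piece M d F').left) :
    ∃ G, G ≤ F ∧ G ≤ F' ∧ z ∈ Set.range (piece M d G).left := by
  obtain ⟨x, rfl⟩ := h
  obtain ⟨x', hx'⟩ := h'
  obtain ⟨G, i, i', w, hw, -⟩ := (Scheme.IsLocallyDirected.ι_eq_ι_iff (diagram M d)).1 hx'.symm
  exact ⟨G, i.le, i'.le, w, by rw [← hw]; exact congrArg (fun f => f w) (colimit.w (diagram M d) i).symm⟩

/-- A quasi-compact morphism lands in a piece. -/
theorem exists_range_subset {T : Scheme.{u}} [CompactSpace T] (m : T ⟶ (repOver M d).left) :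
    ∃ F, Set.range m ⊆ Set.range (piece M d F).left := by
  classical
  obtain ⟨t, ht⟩ := (isCompact_range m.continuous).elim_finite_subcover
    (fun F => Set.range (piece M d F).left) (fun F => (piece M d F).left.isOpenEmbedding.isOpen_range)
    fun z _ => Set.mem_iUnion.2 (piece_surjective M d z)
  exact ⟨t.sup id, fun z hz => by
    obtain ⟨F, hF, hz'⟩ := Set.mem_iUnion₂.1 (ht hz)
    exact range_piece_mono M d (Finset.le_sup (f := id) hF) hz'⟩

theorem exists_lift_piece {B : Type u} [CommRing B] [Algebra R B] (m : TO R B ⟶ repOver M d) :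
    ∃ (F : Finset (Multiplicative M)) (g : (U M d F).Q →ₐ[R] B), sp g ≫ piece M d F = m := by
  haveI : CompactSpace (TO R B).left := inferInstanceAs (CompactSpace (Spec (CommRingCat.of B)))
  obtain ⟨F, hF⟩ := exists_range_subset M d m.left
  let m' : TO R B ⟶ TO R (U M d F).Q := Over.homMk (IsOpenImmersion.lift (piece M d F).left m.left hF) (by
    rw [← Over.w (piece M d F), IsOpenImmersion.lift_fac_assoc, Over.w m])
  obtain ⟨g, hg⟩ := exists_sp m'
  refine ⟨F, g, ?_⟩
  rw [hg]
  exact Over.OverMorphism.ext (IsOpenImmersion.lift_fac _ _ _)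

local notation "HH" => Red.DS (Spec (CommRingCat.of R)) M

/-- The family over a piece. -/
def pieceFam (F : Finset (Multiplicative M)) : HH ⊗ TO R (U M d F).Q ⟶ GA R A :=
  (toAlg_surjective (U M d F).u).choose

theorem toAlg_pieceFam (F : Finset (Multiplicative M)) : toAlg _ (pieceFam M d F) = (U M d F).u :=
  (toAlg_surjective (U M d F).u).choose_spec

theorem toAlg_pieceFam_comp {F : Finset (Multiplicative M)} {B : Type u} [CommRing B] [Algebra R B]
    (g : (U M d F).Q →ₐ[R] B) : toAlg B ((HH ◁ sp g) ≫ pieceFam M d F) =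
      (MonoidAlgebra.mapAlgHom (Multiplicative M) g).comp (U M d F).u := by
  rw [toAlg_comp, toAlg_pieceFam]

theorem pieceFam_res {F F' : Finset (Multiplicative M)} (h : F ≤ F') :
    (HH ◁ sp (res M d h)) ≫ pieceFam M d F' = pieceFam M d F :=
  toAlg_injective (by rw [toAlg_pieceFam_comp, res_spec, toAlg_pieceFam])

/-- The pieces of the product. -/
def prodPiece (F : Finset (Multiplicative M)) : HH ⊗ TO R (U M d F).Q ⟶ HH ⊗ repOver M d := HH ◁ piece M d F

instance (F : Finset (Multiplicative M)) : IsOpenImmersion (prodPiece M d F).left :=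
  MorphismProperty.of_isPullback (HomRep.isPullback_whiskerLeft_left HH (piece M d F)).flip inferInstance

theorem snd_prodPiece (F : Finset (Multiplicative M)) (z : (HH ⊗ TO R (U M d F).Q).left) :
    (snd HH (repOver M d)).left ((prodPiece M d F).left z) = (piece M d F).left ((snd HH _).left z) := by
  rw [← Scheme.Hom.comp_apply, ← Scheme.Hom.comp_apply, ← Over.comp_left, ← Over.comp_left, prodPiece, whiskerLeft_snd]

theorem prodPiece_range (F : Finset (Multiplicative M)) (z : (HH ⊗ repOver M d).left)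
    (h : (snd HH (repOver M d)).left z ∈ Set.range (piece M d F).left) : z ∈ Set.range (prodPiece M d F).left := by
  obtain ⟨x, hx⟩ := h
  obtain ⟨y, hy, -⟩ := Scheme.exists_preimage_of_isPullback (HomRep.isPullback_whiskerLeft_left HH (piece M d F)) z x hx.symm
  exact ⟨y, hy⟩

theorem exists_fam : ∃ υ : HH ⊗ repOver M d ⟶ GA R A, ∀ F, prodPiece M d F ≫ υ = pieceFam M d F := by
  let Z := HH ⊗ repOver M d
  let f : ∀ F, (HH ⊗ TO R (U M d F).Q).left ⟶ Z.left := fun F => (prodPiece M d F).left
  have hcov : ∀ z : Z.left, ∃ F, z ∈ Set.range (f F) := fun z => by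
    obtain ⟨F, hF⟩ := piece_surjective M d ((snd HH (repOver M d)).left z)
    exact ⟨F, prodPiece_range M d F z hF⟩
  choose c hc using hcov
  let 𝒱 : Z.left.OpenCover :=
    Scheme.Cover.mkOfCovers (Z.left) (fun z => (HH ⊗ TO R (U M d (c z)).Q).left) (fun z => f (c z))
      (fun z => ⟨z, hc z⟩) fun z => inferInstanceAs (IsOpenImmersion (prodPiece M d (c z)).left)
  have hcompat : ∀ z z', pullback.fst (f (c z)) (f (c z')) ≫ (pieceFam M d (c z)).left =
      pullback.snd (f (c z)) (f (c z')) ≫ (pieceFam M d (c z')).left := fun z z' => by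
    refine Scheme.hom_ext_of_forall _ _ fun p => ?_
    let q := (pullback.fst (f (c z)) (f (c z')) ≫ f (c z)) p
    have h1 : (snd HH (repOver M d)).left q ∈ Set.range (piece M d (c z)).left := by
      refine ⟨(snd HH _).left (pullback.fst (f (c z)) (f (c z')) p), ?_⟩
      rw [← snd_prodPiece]
      rfl
    have h2 : (snd HH (repOver M d)).left q ∈ Set.range (piece M d (c z')).left := by
      refine ⟨(snd HH _).left (pullback.snd (f (c z)) (f (c z')) p), ?_⟩
      rw [← snd_prodPiece]
      show (snd HH (repOver M d)).left ((pullback.snd (f (c z)) (f (c z')) ≫ f (c z')) p) = _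
      rw [← pullback.condition]
    obtain ⟨G, hG, hG', hq⟩ := range_piece_inter M d _ h1 h2
    obtain ⟨w, hw⟩ := prodPiece_range M d G q hq
    let r : HH ⊗ TO R (U M d G).Q ⟶ HH ⊗ TO R (U M d (c z)).Q := HH ◁ sp (res M d hG)
    let r' : HH ⊗ TO R (U M d G).Q ⟶ HH ⊗ TO R (U M d (c z')).Q := HH ◁ sp (res M d hG')
    have hr : r ≫ prodPiece M d (c z) = prodPiece M d G := by
      rw [prodPiece, prodPiece, ← whiskerLeft_comp, sp_res_piece]
    have hr' : r' ≫ prodPiece M d (c z') = prodPiece M d G := by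
      rw [prodPiece, prodPiece, ← whiskerLeft_comp, sp_res_piece]
    let α : (HH ⊗ TO R (U M d G).Q).left ⟶ pullback (f (c z)) (f (c z')) :=
      pullback.lift r.left r'.left ((congrArg CommaMorphism.left hr).trans (congrArg CommaMorphism.left hr').symm)
    have hα : α ≫ pullback.fst _ _ ≫ f (c z) = (prodPiece M d G).left := by
      rw [pullback.lift_fst_assoc]; exact congrArg CommaMorphism.left hr
    haveI : IsOpenImmersion α := by
      haveI : IsOpenImmersion (α ≫ pullback.fst (f (c z)) (f (c z')) ≫ f (c z)) := by rw [hα]; infer_instance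
      haveI : IsOpenImmersion (pullback.fst (f (c z)) (f (c z')) ≫ f (c z)) := inferInstance
      exact IsOpenImmersion.of_comp α (pullback.fst (f (c z)) (f (c z')) ≫ f (c z))
    refine ⟨α.opensRange, ⟨w, (pullback.fst (f (c z)) (f (c z')) ≫ f (c z)).isOpenEmbedding.injective ?_⟩, ?_⟩
    · rw [← Scheme.Hom.comp_apply α, hα, hw]
    · rw [← cancel_epi α.isoOpensRange.hom, Scheme.Hom.isoOpensRange_hom_ι_assoc,
        Scheme.Hom.isoOpensRange_hom_ι_assoc, pullback.lift_fst_assoc, pullback.lift_snd_assoc]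
      exact (congrArg CommaMorphism.left (pieceFam_res M d hG)).trans
        (congrArg CommaMorphism.left (pieceFam_res M d hG')).symm
  let υl := 𝒱.glueMorphisms (fun z => (pieceFam M d (c z)).left) hcompat
  have hυ : ∀ z, f (c z) ≫ υl = (pieceFam M d (c z)).left := fun z => 𝒱.ι_glueMorphisms _ hcompat z
  let υ : Z ⟶ GA R A := Over.homMk υl (𝒱.hom_ext _ _ fun z => by
    show f (c z) ≫ υl ≫ _ = f (c z) ≫ _
    rw [reassoc_of% (hυ z), Over.w, Over.w (prodPiece M d (c z))])
  refine ⟨υ, fun F => Over.OverMorphism.ext ?_⟩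
  refine Scheme.hom_ext_of_forall _ _ fun p => ?_
  let q := f F p
  obtain ⟨G, hG, hG', hq⟩ := range_piece_inter M d ((snd HH (repOver M d)).left q)
    ⟨(snd HH _).left p, (snd_prodPiece M d F p).symm⟩
    (show _ ∈ Set.range (piece M d (c q)).left by
      obtain ⟨x, hx⟩ := hc q
      exact ⟨(snd HH _).left x, by rw [← snd_prodPiece]; exact congrArg _ hx⟩)
  obtain ⟨w, hw⟩ := prodPiece_range M d G q hq
  let r : HH ⊗ TO R (U M d G).Q ⟶ HH ⊗ TO R (U M d F).Q := HH ◁ sp (res M d hG)
  let r' : HH ⊗ TO R (U M d G).Q ⟶ HH ⊗ TO R (U M d (c q)).Q := HH ◁ sp (res M d hG')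
  have hr : r ≫ prodPiece M d F = prodPiece M d G := by rw [prodPiece, prodPiece, ← whiskerLeft_comp, sp_res_piece]
  have hr' : r' ≫ prodPiece M d (c q) = prodPiece M d G := by rw [prodPiece, prodPiece, ← whiskerLeft_comp, sp_res_piece]
  haveI : IsOpenImmersion r.left :=
    haveI : IsOpenImmersion (sp (res M d hG)).left := (isOpenImmersion_res M d hG).1
    MorphismProperty.of_isPullback (HomRep.isPullback_whiskerLeft_left HH (sp (res M d hG))).flip inferInstance
  refine ⟨r.left.opensRange, ⟨w, (f F).isOpenEmbedding.injective ?_⟩, ?_⟩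
  · rw [← Scheme.Hom.comp_apply]
    exact (congrArg (fun m => m.left w) hr).trans hw
  · rw [← cancel_epi r.left.isoOpensRange.hom, Scheme.Hom.isoOpensRange_hom_ι_assoc, Scheme.Hom.isoOpensRange_hom_ι_assoc]
    show (r ≫ prodPiece M d F ≫ υ).left = (r ≫ pieceFam M d F).left
    rw [← Category.assoc, hr, pieceFam_res, ← hr', ← pieceFam_res M d hG', Category.assoc]
    show r'.left ≫ f (c q) ≫ υl = r'.left ≫ (pieceFam M d (c q)).left
    rw [hυ]

/-- Every affine object is the spectrum of an algebra. -/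
theorem exists_iso_TO (T : Over (Spec (CommRingCat.of R))) [IsAffine T.left] :
    ∃ (B : Type u) (_ : CommRing B) (_ : Algebra R B), Nonempty (TO R B ≅ T) := by
  let c := Spec.preimage (T.left.isoSpec.inv ≫ T.hom)
  letI : Algebra R Γ(T.left, ⊤) := c.hom.toAlgebra
  exact ⟨Γ(T.left, ⊤), inferInstance, inferInstance, ⟨Over.isoMk T.left.isoSpec.symm (Spec.map_preimage _).symm⟩⟩

theorem existsUnique_algebra {υ : HH ⊗ repOver M d ⟶ GA R A} (hυ : ∀ F, prodPiece M d F ≫ υ = pieceFam M d F)
    {B : Type u} [CommRing B] [Algebra R B] (φ : HH ⊗ TO R B ⟶ GA R A) (hφ : AutFam.IsHomFamily HH (GA R A) φ) :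
    ∃! m : TO R B ⟶ repOver M d, (HH ◁ m) ≫ υ = φ := by
  classical
  have hcalc : ∀ (F : Finset (Multiplicative M)) (g : (U M d F).Q →ₐ[R] B),
      toAlg B ((HH ◁ (sp g ≫ piece M d F)) ≫ υ) =
        (MonoidAlgebra.mapAlgHom (Multiplicative M) g).comp (U M d F).u := fun F g => by
    rw [whiskerLeft_comp_assoc, show (HH ◁ piece M d F) ≫ υ = pieceFam M d F from hυ F, toAlg_pieceFam_comp]
  obtain ⟨F, hF⟩ := exists_good (A := A) (Γ := Multiplicative M) (a := d.a) (toAlg B φ)
  obtain ⟨g, hg, -⟩ := (U M d F).univ B _ (isHomPt_toAlg hφ) hF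
  refine ⟨sp g ≫ piece M d F, toAlg_injective (by rw [hcalc, hg]), fun m hm => ?_⟩
  obtain ⟨F', g', rfl⟩ := exists_lift_piece M d m
  have h' : (MonoidAlgebra.mapAlgHom (Multiplicative M) g').comp (U M d F').u = toAlg B φ := by
    rw [← hcalc, hm]
  have hgood : GF M d (F ∪ F') (toAlg B φ) := hF.mono Finset.subset_union_left
  obtain ⟨k, -, hku⟩ := (U M d (F ∪ F')).univ B _ (isHomPt_toAlg hφ) hgood
  have e1 : g.comp (res M d (Finset.subset_union_left (s₁ := F) (s₂ := F'))) = k :=
    hku _ (by dsimp only; rw [← mapAlgHom_comp_comp, res_spec, hg])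
  have e2 : g'.comp (res M d (Finset.subset_union_right (s₁ := F) (s₂ := F'))) = k :=
    hku _ (by dsimp only; rw [← mapAlgHom_comp_comp, res_spec, h'])
  rw [← sp_res_piece M d (Finset.subset_union_left (s₁ := F) (s₂ := F')),
    ← sp_res_piece M d (Finset.subset_union_right (s₁ := F) (s₂ := F')), ← Category.assoc, ← Category.assoc,
    sp_comp, sp_comp, e1, e2]

theorem existsUnique_affine {υ : HH ⊗ repOver M d ⟶ GA R A} (hυ : ∀ F, prodPiece M d F ≫ υ = pieceFam M d F)
    (T : Over (Spec (CommRingCat.of R))) [IsAffine T.left] (φ : HH ⊗ T ⟶ GA R A)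
    (hφ : AutFam.IsHomFamily HH (GA R A) φ) : ∃! m : T ⟶ repOver M d, (HH ◁ m) ≫ υ = φ := by
  obtain ⟨B, _, _, ⟨e⟩⟩ := exists_iso_TO T
  obtain ⟨m, hm, hu⟩ := existsUnique_algebra M d hυ ((HH ◁ e.hom) ≫ φ) (HomRep.isHomFamily_comp e.hom hφ)
  refine ⟨e.inv ≫ m, ?_, fun m' hm' => ?_⟩
  · show (HH ◁ (e.inv ≫ m)) ≫ υ = φ
    rw [whiskerLeft_comp_assoc, hm, ← whiskerLeft_comp_assoc, Iso.inv_hom_id, whiskerLeft_id, Category.id_comp]
  · rw [← hu (e.hom ≫ m') (by dsimp only; rw [whiskerLeft_comp_assoc, hm']), Iso.inv_hom_id_assoc]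

theorem representsHom {υ : HH ⊗ repOver M d ⟶ GA R A} (hυ : ∀ F, prodPiece M d F ≫ υ = pieceFam M d F) :
    AutFam.RepresentsHom HH (GA R A) (repOver M d) υ := by
  constructor
  · intro Y g₁ g₂ t
    refine HomRep.hom_ext_opens (fun F => t.left ⁻¹ᵁ (piece M d F).left.opensRange)
      (fun z => piece_surjective M d (t.left z)) fun F => ?_
    let O := t.left ⁻¹ᵁ (piece M d F).left.opensRange
    let r := HomRep.openRes Y O
    let t' : Over.mk (O.ι ≫ Y.hom) ⟶ TO R (U M d F).Q :=
      Over.homMk (IsOpenImmersion.lift (piece M d F).left (r ≫ t).left (by rintro _ ⟨z, rfl⟩; exact z.2)) (by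
        show _ ≫ qAlg R _ = _
        rw [← show (piece M d F).left ≫ (repOver M d).hom = qAlg R _ from Over.w (piece M d F),
          IsOpenImmersion.lift_fac_assoc]
        exact Over.w (r ≫ t))
    have ht : r ≫ t = t' ≫ piece M d F := Over.OverMorphism.ext (IsOpenImmersion.lift_fac _ _ _).symm
    show r ≫ _ = r ≫ _
    rw [MonObj.comp_mul, comp_lift_assoc, comp_lift_assoc, comp_lift_assoc, ht, MonObj.comp_mul]
    simp only [← lift_whiskerLeft_assoc]
    rw [show (HH ◁ piece M d F) ≫ υ = pieceFam M d F from hυ F]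
    exact isHomFamily_of_isHomPt (by rw [toAlg_pieceFam]; exact (U M d F).hu) _ _ _ _
  · intro T φ hφ
    let 𝒯 := T.left.affineCover
    let Ti : 𝒯.I₀ → Over (Spec (CommRingCat.of R)) := fun i => Over.mk (𝒯.f i ≫ T.hom)
    let ci : ∀ i, Ti i ⟶ T := fun i => Over.homMk (𝒯.f i) rfl
    haveI : ∀ i, IsAffine (Ti i).left := fun i => inferInstanceAs (IsAffine (𝒯.X i))
    have hfam : ∀ {V : Over (Spec (CommRingCat.of R))} (v : V ⟶ T), AutFam.IsHomFamily HH (GA R A) ((HH ◁ v) ≫ φ) :=
      fun v => HomRep.isHomFamily_comp v hφ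
    choose m hm hmu using fun i => existsUnique_affine M d hυ (Ti i) ((HH ◁ ci i) ≫ φ) (hfam _)
    dsimp only at hm hmu
    have hcompat : ∀ i j, pullback.fst (𝒯.f i) (𝒯.f j) ≫ (m i).left = pullback.snd (𝒯.f i) (𝒯.f j) ≫ (m j).left := by
      intro i j
      let P : Over (Spec (CommRingCat.of R)) := Over.mk (pullback.fst (𝒯.f i) (𝒯.f j) ≫ 𝒯.f i ≫ T.hom)
      let p₁ : P ⟶ Ti i := Over.homMk (pullback.fst (𝒯.f i) (𝒯.f j)) rfl
      let p₂ : P ⟶ Ti j := Over.homMk (pullback.snd (𝒯.f i) (𝒯.f j)) (pullback.condition_assoc T.hom).symm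
      refine (P.left.affineCover).hom_ext _ _ fun k => ?_
      let V : Over (Spec (CommRingCat.of R)) := Over.mk (P.left.affineCover.f k ≫ P.hom)
      let v : V ⟶ P := Over.homMk (P.left.affineCover.f k) rfl
      haveI : IsAffine V.left := inferInstanceAs (IsAffine (P.left.affineCover.X k))
      have hp : p₁ ≫ ci i = p₂ ≫ ci j := Over.OverMorphism.ext pullback.condition
      have e₁ : (HH ◁ (v ≫ p₁ ≫ m i)) ≫ υ = (HH ◁ (v ≫ p₁ ≫ ci i)) ≫ φ := by
        simp only [whiskerLeft_comp, Category.assoc, hm]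
      have e₂ : (HH ◁ (v ≫ p₂ ≫ m j)) ≫ υ = (HH ◁ (v ≫ p₁ ≫ ci i)) ≫ φ := by
        rw [hp]; simp only [whiskerLeft_comp, Category.assoc, hm]
      exact congrArg CommaMorphism.left ((existsUnique_affine M d hυ V _ (hfam _)).unique e₁ e₂)
    let ml := 𝒯.glueMorphisms (fun i => (m i).left) hcompat
    have hml : ∀ i, 𝒯.f i ≫ ml = (m i).left := fun i => 𝒯.ι_glueMorphisms _ hcompat i
    let m' : T ⟶ repOver M d := Over.homMk ml (𝒯.hom_ext _ _ fun i => by
      rw [reassoc_of% (hml i)]; exact Over.w (m i))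
    have hm' : ∀ i, ci i ≫ m' = m i := fun i => Over.OverMorphism.ext (hml i)
    refine ⟨m', ?_, fun n hn => ?_⟩
    · refine HomRep.fam_ext_opens (fun i => (𝒯.f i).opensRange) (fun z => ?_) fun i => ?_
      · obtain ⟨i, x, hx⟩ := 𝒯.exists_eq z
        exact ⟨i, x, hx⟩
      · let s : Over.mk ((𝒯.f i).opensRange.ι ≫ T.hom) ⟶ Ti i :=
          Over.homMk (𝒯.f i).isoOpensRange.inv (by
            show _ ≫ 𝒯.f i ≫ T.hom = _
            rw [Scheme.Hom.isoOpensRange_inv_comp_assoc]
            rfl)
        have hs : s ≫ ci i = HomRep.openRes T (𝒯.f i).opensRange :=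
          Over.OverMorphism.ext ((𝒯.f i).isoOpensRange_inv_comp)
        rw [← hs, whiskerLeft_comp_assoc, whiskerLeft_comp_assoc, ← whiskerLeft_comp_assoc HH (ci i) m', hm', hm]
    · refine Over.OverMorphism.ext (𝒯.hom_ext _ _ fun i => ?_)
      have h := hmu i (ci i ≫ n) (by rw [whiskerLeft_comp_assoc, hn])
      exact (congrArg CommaMorphism.left h).trans (hml i).symm

theorem smooth_repOver : Smooth (repOver M d).hom := by
  refine IsZariskiLocalAtSource.of_openCover (Scheme.IsLocallyDirected.openCover (diagram M d)) fun F => ?_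
  have hq : (piece M d F).left ≫ (repOver M d).hom = qAlg R (U M d F).Q := Over.w (piece M d F)
  show Smooth (colimit.ι (diagram M d) F ≫ (repOver M d).hom)
  rw [show colimit.ι (diagram M d) F ≫ (repOver M d).hom = qAlg R (U M d F).Q from hq,
    HasRingHomProperty.Spec_iff (P := @Smooth)]
  show (algebraMap R (U M d F).Q).Smooth
  rw [RingHom.smooth_algebraMap]
  haveI := (U M d F).fp
  exact ⟨formallySmooth_univ (Γ := Multiplicative M) (U M d F).hu (U M d F).hF (U M d F).univ, inferInstance⟩

theorem isSeparated_repOver : IsSeparated (repOver M d).hom := by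
  classical
  refine FpqcMisc.isSeparated_of_separated_nbhd _ fun z _ => ?_
  obtain ⟨F, hF⟩ := piece_surjective M d (pullback.fst (repOver M d).hom (repOver M d).hom z)
  obtain ⟨F', hF'⟩ := piece_surjective M d (pullback.snd (repOver M d).hom (repOver M d).hom z)
  let O := (piece M d (F ⊔ F')).left.opensRange
  haveI : IsAffine (TO R (U M d (F ⊔ F')).Q).left := inferInstanceAs (IsAffine (Spec (CommRingCat.of (U M d (F ⊔ F')).Q)))
  haveI : IsAffine O.toScheme := IsAffine.of_isIso (piece M d (F ⊔ F')).left.isoOpensRange.inv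
  refine ⟨O, inferInstance, range_piece_mono M d le_sup_left hF, range_piece_mono M d le_sup_right hF'⟩

theorem indQA_repOver : MoreMor.IsIndQuasiAffineHom (repOver M d).hom := by
  intro V _ W hW
  haveI : CompactSpace W.toScheme := isCompact_iff_compactSpace.1 hW
  let j : W.toScheme ⟶ (repOver M d).left := W.ι ≫ ((repOver M d).hom ⁻¹ᵁ V).ι
  obtain ⟨F, hF⟩ := exists_range_subset M d j
  haveI : IsOpenImmersion (IsOpenImmersion.lift (piece M d F).left j hF) := by
    haveI : IsOpenImmersion (IsOpenImmersion.lift (piece M d F).left j hF ≫ (piece M d F).left) := by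
      rw [IsOpenImmersion.lift_fac]; infer_instance
    exact IsOpenImmersion.of_comp _ (piece M d F).left
  haveI : Scheme.IsQuasiAffine (TO R (U M d F).Q).left := inferInstanceAs (Scheme.IsQuasiAffine (Spec _))
  exact Scheme.IsQuasiAffine.of_isImmersion (IsOpenImmersion.lift (piece M d F).left j hF)

omit d in
/-- Homomorphisms from a diagonalisable group into a smooth affine group are representable. -/
theorem exists_representsHom_spec : ∃ (AA : Over (Spec (CommRingCat.of R))) (υ : HH ⊗ AA ⟶ GA R A),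
    AutFam.RepresentsHom HH (GA R A) AA υ ∧ Smooth AA.hom ∧ IsSeparated AA.hom ∧
      MoreMor.IsIndQuasiAffineHom AA.hom := by
  obtain ⟨d⟩ := nonempty_pres R A
  obtain ⟨υ, hυ⟩ := exists_fam M d
  exact ⟨repOver M d, υ, representsHom M d hυ, smooth_repOver M d, isSeparated_repOver M d, indQA_repOver M d⟩

end Groth.Agent.HomDM

end
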